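import Groth.Agent.An.H410.Exist
import Groth.Agent.An.H579.RetDef

/-!
# Separation of the points of the fibres by holomorphic functions of moderate growth
-/

set_option autoImplicit false

open Topology Filter Set Metric

namespace Groth.Agent.An.H410.Sep

open Groth.Agent.An.H579

theorem one_le_prod (S : Finset ℂ) (z : ℂ) : (1 : ℝ) ≤ ∏ x ∈ S, (1 + ‖z - x‖⁻¹) := by
  refine Finset.prod_induction (fun x => 1 + ‖z - x‖⁻¹) (fun x : ℝ => 1 ≤ x)
    (fun a b ha hb => one_le_mul_of_one_le_of_one_le ha hb) le_rfl (fun x _ => ?_)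
  have := inv_nonneg.2 (norm_nonneg (z - x))
  linarith

theorem sep {Y : Type} [TopologicalSpace Y] {S : Finset ℂ} {p : Y → ℂ}
    (h : RetCov.FinCov (S : Set ℂ) p) : h.SEP := by
  classical
  intro y₁
  have h' : Groth.Agent.An.H410.Cover.FinCov p ((S : Set ℂ)ᶜ) :=
    ⟨h.closed.isOpen_compl, h.notMem, h.cov, h.fin⟩
  obtain ⟨F, hF1, hF2, hF3, C, hC0, hC⟩ := Groth.Agent.An.H410.Exist.exists_fn h' y₁
  refine ⟨F, ?_, ⟨2 * C, 2, fun y => ?_⟩, hF2, hF3⟩
  · rw [RetCov.FinCov.hol_iff]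
    intro D σ hD hσ
    exact hF1 D σ ⟨hD, hσ.cont, hσ.sec⟩
  · set z := p y with hz
    set P : ℝ := ∏ s ∈ S, (1 + ‖z - s‖⁻¹) with hP
    have hle : ∀ s ∈ S, 1 + ‖z - s‖⁻¹ ≤ P := by
      intro s hs
      rw [hP, ← Finset.mul_prod_erase S _ hs]
      have h1 : (1 : ℝ) ≤ ∏ x ∈ S.erase s, (1 + ‖z - x‖⁻¹) := one_le_prod _ z
      have h2 : 0 ≤ 1 + ‖z - s‖⁻¹ := by positivity
      nlinarith
    have hP1 : 1 ≤ P := one_le_prod _ z
    have hP0 : 0 < P := by linarith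
    have hb : ball z P⁻¹ ⊆ ((S : Set ℂ))ᶜ := by
      intro w hw hwS
      have hne : z - w ≠ 0 := by
        intro hc
        have hzw : p y = w := sub_eq_zero.1 hc
        exact h.notMem y (by rw [hzw]; exact hwS)
      have h1 := hle w hwS
      have h2 : ‖z - w‖ < P⁻¹ := by
        rw [mem_ball, dist_comm, dist_eq_norm] at hw; exact hw
      have h3 : 0 < ‖z - w‖ := norm_pos_iff.2 hne
      have h4 : P < ‖z - w‖⁻¹ := by
        rw [lt_inv_comm₀ hP0 h3]; exact h2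
      linarith
    obtain ⟨σ, hσ, hσy⟩ := h.exists_sec_ball hb y (mem_ball_self (inv_pos.2 hP0))
    have hr : 0 < P⁻¹ / 2 := by positivity
    have hr1 : P⁻¹ / 2 ≤ 1 := by
      have : P⁻¹ ≤ 1 := inv_le_one_of_one_le₀ hP1
      linarith
    have key := hC (ball z P⁻¹) σ z (P⁻¹ / 2) ⟨isOpen_ball, hσ.cont, hσ.sec⟩ hr hr1
      (closedBall_subset_ball (by linarith [inv_pos.2 hP0]))
    rw [← hz] at hσy
    rw [hσy] at key
    refine key.trans ?_
    rw [RetCov.wt]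
    have e1 : C * (1 + ‖z‖) ^ 2 / (P⁻¹ / 2) = 2 * C * ((1 + ‖z‖) ^ 2 * P) := by
      field_simp
    rw [e1, mul_pow]
    have : P ≤ P ^ 2 := by nlinarith
    gcongr

end Groth.Agent.An.H410.Sep
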