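import Groth.Agent.An.H410.Push
import Mathlib.Analysis.SpecialFunctions.SmoothTransition
import Mathlib.Analysis.Calculus.MeanValue
import Mathlib.Analysis.InnerProductSpace.Calculus

/-!
# Radial bump functions in the plane
-/

set_option autoImplicit false

open Topology Filter Set MeasureTheory Complex
open scoped ContDiff ComplexConjugate

namespace Groth.Agent.An.H410.Bump

open Groth.Agent.An.H410.Push

/-- Smooth step on the positive reals, from `0` (for `t ≤ r²/2`) to `1` (for `t ≥ r²`). -/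
noncomputable def Phi (r : ℝ) (t : ℝ) : ℝ := Real.smoothTransition (2 * (t / r ^ 2) - 1)

theorem contDiff_Phi (r : ℝ) : ContDiff ℝ ∞ (Phi r) :=
  Real.smoothTransition.contDiff.comp
    ((contDiff_const.mul (contDiff_id.div_const _)).sub contDiff_const)

theorem Phi_one {r t : ℝ} (hr : 0 < r) (ht : r ^ 2 ≤ t) : Phi r t = 1 := by
  apply Real.smoothTransition.one_of_one_le
  have : 1 ≤ t / r ^ 2 := (one_le_div (by positivity)).2 ht
  linarith

theorem Phi_zero {r t : ℝ} (hr : 0 < r) (ht : t ≤ r ^ 2 / 2) : Phi r t = 0 := by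
  apply Real.smoothTransition.zero_of_nonpos
  have : t / r ^ 2 ≤ 1 / 2 := by
    rw [div_le_iff₀ (by positivity)]; linarith
  linarith

/-- The derivative of the step. -/
noncomputable def phi (r : ℝ) : ℝ → ℝ := deriv (Phi r)

theorem contDiff_phi (r : ℝ) : ContDiff ℝ ∞ (phi r) := by
  have := (contDiff_infty_iff_deriv.1 (contDiff_Phi r)).2
  exact this

theorem phi_nonneg {r : ℝ} (hr : 0 < r) (t : ℝ) : 0 ≤ phi r t := by
  have : Monotone (Phi r) := by
    intro a b hab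
    apply Real.smoothTransition.monotone
    have : a / r ^ 2 ≤ b / r ^ 2 := by gcongr
    linarith
  exact this.deriv_nonneg

theorem phi_of_lt {r t : ℝ} (hr : 0 < r) (ht : r ^ 2 < t) : phi r t = 0 := by
  have : Phi r =ᶠ[𝓝 t] fun _ => 1 := by
    filter_upwards [Ioi_mem_nhds ht] with x hx
    exact Phi_one hr (le_of_lt hx)
  rw [phi, this.deriv_eq]; simp

theorem phi_of_lt' {r t : ℝ} (hr : 0 < r) (ht : t < r ^ 2 / 2) : phi r t = 0 := by
  have : Phi r =ᶠ[𝓝 t] fun _ => 0 := by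
    filter_upwards [Iio_mem_nhds ht] with x hx
    exact Phi_zero hr (le_of_lt hx)
  rw [phi, this.deriv_eq]; simp

theorem phi_scale {r : ℝ} (t : ℝ) : phi r t = (r ^ 2)⁻¹ * phi 1 (t / r ^ 2) := by
  have h1 : Phi r = fun t => Phi 1 (t / r ^ 2) := by
    ext t; simp [Phi]
  have h2 : HasDerivAt (Phi 1) (phi 1 (t / r ^ 2)) (t / r ^ 2) :=
    (((contDiff_Phi 1).differentiable (by simp)).differentiableAt).hasDerivAt
  have h3 : HasDerivAt (fun t : ℝ => t / r ^ 2) (1 / r ^ 2) t := (hasDerivAt_id t).div_const _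
  rw [phi, h1]
  have h4 := (h2.comp t h3).deriv
  have h5 : deriv (fun t => Phi 1 (t / r ^ 2)) t = _ := h4
  rw [h5]
  ring

theorem exists_phi_ne_zero : ∃ t, 0 ≤ t ∧ phi 1 t ≠ 0 := by
  by_contra hc
  push Not at hc
  have hd : Differentiable ℝ (Phi 1) := (contDiff_Phi 1).differentiable (by simp)
  have h1 : ∀ t, phi 1 t = 0 := by
    intro t
    rcases le_or_gt 0 t with h | h
    · exact hc t h
    · exact phi_of_lt' one_pos (by linarith)
  have h2 := is_const_of_deriv_eq_zero hd h1 0 1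
  rw [Phi_zero one_pos (by norm_num), Phi_one one_pos (by norm_num)] at h2
  norm_num at h2

theorem exists_phi_bound : ∃ M : ℝ, 0 ≤ M ∧ ∀ r t, 0 < r → |phi r t| ≤ M / r ^ 2 := by
  have hc : Continuous (phi 1) := (contDiff_phi 1).continuous
  have hcs : HasCompactSupport (phi 1) := by
    refine HasCompactSupport.intro (K := Icc 0 1) isCompact_Icc fun t ht => ?_
    rw [mem_Icc, not_and_or, not_le, not_le] at ht
    rcases ht with h | h
    · exact phi_of_lt' one_pos (by linarith)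
    · exact phi_of_lt one_pos (by linarith)
  obtain ⟨M, hM⟩ := hc.bounded_above_of_compact_support hcs
  have hM0 : 0 ≤ M := (norm_nonneg _).trans (hM 0)
  refine ⟨M, hM0, fun r t hr => ?_⟩
  rw [phi_scale, abs_mul, abs_inv, abs_of_nonneg (by positivity : 0 ≤ r ^ 2), div_eq_inv_mul M]
  exact mul_le_mul_of_nonneg_left (hM _) (by positivity)

/-- A radial function. -/
noncomputable def rad (g : ℝ → ℝ) (z : ℂ) : ℂ := (g (‖z‖ ^ 2) : ℝ)

theorem contDiff_rad {g : ℝ → ℝ} (hg : ContDiff ℝ ∞ g) : ContDiff ℝ ∞ (rad g) :=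
  ofRealCLM.contDiff.comp (hg.comp (contDiff_norm_sq ℝ))

theorem fderiv_rad {g : ℝ → ℝ} (hg : ContDiff ℝ ∞ g) (z v : ℂ) :
    fderiv ℝ (rad g) z v = (deriv g (‖z‖ ^ 2) * (2 * (conj z * v).re) : ℝ) := by
  have h1 : HasFDerivAt (fun z : ℂ => ‖z‖ ^ 2) (2 • (innerSL ℝ z)) z :=
    (hasStrictFDerivAt_norm_sq z).hasFDerivAt
  have h2 : HasDerivAt g (deriv g (‖z‖ ^ 2)) (‖z‖ ^ 2) :=
    ((hg.differentiable (by simp)).differentiableAt).hasDerivAt
  have h3 := (h2.comp_hasFDerivAt z h1)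
  have h4 := (ofRealCLM.hasFDerivAt.comp z h3).fderiv
  have h5 : fderiv ℝ (rad g) z = _ := h4
  rw [h5]
  simp only [ContinuousLinearMap.comp_apply, ofRealCLM_apply, smul_apply, innerSL_apply_apply,
    smul_eq_mul, nsmul_eq_mul, Complex.inner]
  have e : (v * conj z).re = (conj z * v).re := by rw [mul_comm]
  rw [e]
  norm_num

theorem db_rad {g : ℝ → ℝ} (hg : ContDiff ℝ ∞ g) (z : ℂ) :
    db (rad g) z = rad (deriv g) z * z := by
  rw [db, fderiv_rad hg, fderiv_rad hg, rad]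
  have e1 : (conj z * 1).re = z.re := by simp
  have e2 : (conj z * I).re = z.im := by simp
  rw [e1, e2]
  have h := re_add_im z
  push_cast
  linear_combination ((deriv g (‖z‖ ^ 2) : ℝ) : ℂ) * h

theorem db_mul {f g : ℂ → ℂ} {z : ℂ} (hf : DifferentiableAt ℝ f z) (hg : DifferentiableAt ℝ g z) :
    db (fun z => f z * g z) z = db f z * g z + f z * db g z := by
  rw [db, db, db, fderiv_fun_mul hf hg]
  simp only [add_apply, smul_apply, smul_eq_mul]
  ring

theorem db_of_differentiableAt {f : ℂ → ℂ} {z : ℂ} (hf : DifferentiableAt ℂ f z) : db f z = 0 := by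
  rw [db, (hf.hasFDerivAt.restrictScalars ℝ).fderiv]
  have : (fderiv ℂ f z) I = I * (fderiv ℂ f z) 1 := by
    conv_lhs => rw [← mul_one I, ← smul_eq_mul, map_smul, smul_eq_mul]
  simp only [ContinuousLinearMap.coe_restrictScalars', this]
  rw [← mul_assoc, I_mul_I]
  ring

theorem db_congr {f g : ℂ → ℂ} {z : ℂ} (h : f =ᶠ[𝓝 z] g) : db f z = db g z := by
  rw [db, db, h.fderiv_eq]

/-- The radial bump centred at `ζ`. -/
noncomputable def beta (r : ℝ) (ζ : ℂ) (z : ℂ) : ℂ := rad (phi r) (z - ζ)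

theorem contDiff_beta (r : ℝ) (ζ : ℂ) : ContDiff ℝ ∞ (beta r ζ) :=
  (contDiff_rad (contDiff_phi r)).comp (contDiff_id.sub contDiff_const)

theorem beta_zero {r : ℝ} (hr : 0 < r) (ζ : ℂ) : ∀ z ∉ Metric.closedBall ζ r, beta r ζ z = 0 := by
  intro z hz
  rw [Metric.mem_closedBall, not_le, dist_eq_norm] at hz
  rw [beta, rad, phi_of_lt hr (by gcongr)]
  simp

theorem db_comp_sub (f : ℂ → ℂ) (ζ z : ℂ) : db (fun z => f (z - ζ)) z = db f (z - ζ) := by
  rw [db, db, fderiv_comp_sub]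

/-- `(z - ζ) β(z - ζ)` is `∂̄` of a compactly supported function. -/
theorem db_prim {r : ℝ} (ζ : ℂ) (z : ℂ) :
    db (fun z => rad (Phi r) (z - ζ) - 1) z = (z - ζ) * beta r ζ z := by
  have : db (fun z => rad (Phi r) (z - ζ) - 1) z = db (fun z => rad (Phi r) (z - ζ)) z := by
    rw [db, db, fderiv_sub_const]
  rw [this, db_comp_sub, db_rad (contDiff_Phi r), mul_comm]
  rfl

/-- The primitive of the difference of two bumps. -/
noncomputable def kappa (r r' : ℝ) (ζ : ℂ) (z : ℂ) : ℂ :=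
  rad (fun t => Phi r t - Phi r' t) (z - ζ) * (z - ζ)⁻¹

theorem kappa_eventually {r r' : ℝ} (hr : 0 < r) (hr' : 0 < r') (ζ : ℂ) :
    kappa r r' ζ =ᶠ[𝓝 ζ] fun _ => 0 := by
  have hm : 0 < min r r' / 2 := by positivity
  filter_upwards [Metric.ball_mem_nhds ζ hm] with z hz
  rw [Metric.mem_ball, dist_eq_norm] at hz
  have h1 : ‖z - ζ‖ < r / 2 := hz.trans_le (by gcongr; exact min_le_left _ _)
  have h2 : ‖z - ζ‖ < r' / 2 := hz.trans_le (by gcongr; exact min_le_right _ _)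
  have h1' : ‖z - ζ‖ ^ 2 ≤ r ^ 2 / 2 := by nlinarith [norm_nonneg (z - ζ)]
  have h2' : ‖z - ζ‖ ^ 2 ≤ r' ^ 2 / 2 := by nlinarith [norm_nonneg (z - ζ)]
  rw [kappa, rad, Phi_zero hr h1', Phi_zero hr' h2']
  simp

theorem contDiff_kappa {r r' : ℝ} (hr : 0 < r) (hr' : 0 < r') (ζ : ℂ) :
    ContDiff ℝ ∞ (kappa r r' ζ) := by
  rw [contDiff_iff_contDiffAt]
  intro z
  by_cases hz : z = ζ
  · subst hz
    exact contDiffAt_const.congr_of_eventuallyEq (kappa_eventually hr hr' z)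
  · have h1 : ContDiffAt ℝ ∞ (fun z => rad (fun t => Phi r t - Phi r' t) (z - ζ)) z :=
      ((contDiff_rad ((contDiff_Phi r).sub (contDiff_Phi r'))).comp
        (contDiff_id.sub contDiff_const)).contDiffAt
    have h2 : ContDiffAt ℝ ∞ (fun z : ℂ => (z - ζ)⁻¹) z :=
      (contDiffAt_id.sub contDiffAt_const).inv (sub_ne_zero.2 hz)
    exact h1.mul h2

theorem db_kappa {r r' : ℝ} (hr : 0 < r) (hr' : 0 < r') (ζ z : ℂ) :
    db (kappa r r' ζ) z = beta r ζ z - beta r' ζ z := by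
  by_cases hz : z = ζ
  · subst hz
    rw [db_congr (kappa_eventually hr hr' z), beta, beta, rad, rad]
    have e1 : ‖z - z‖ ^ 2 = 0 := by simp
    rw [e1, phi_of_lt' hr (by positivity), phi_of_lt' hr' (by positivity)]
    simp [db]
  · have hne : z - ζ ≠ 0 := sub_ne_zero.2 hz
    have hs : ContDiff ℝ ∞ fun t => Phi r t - Phi r' t := (contDiff_Phi r).sub (contDiff_Phi r')
    have h1 : DifferentiableAt ℝ (fun z => rad (fun t => Phi r t - Phi r' t) (z - ζ)) z :=
      (((contDiff_rad hs).comp (contDiff_id.sub contDiff_const)).differentiable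
        (by simp)).differentiableAt
    have h2 : DifferentiableAt ℂ (fun z : ℂ => (z - ζ)⁻¹) z :=
      (differentiableAt_id.sub_const ζ).inv hne
    have e : kappa r r' ζ = fun z => rad (fun t => Phi r t - Phi r' t) (z - ζ) * (z - ζ)⁻¹ := rfl
    rw [e, db_mul h1 (h2.restrictScalars ℝ), db_of_differentiableAt h2, db_comp_sub
      (rad (fun t => Phi r t - Phi r' t)), db_rad hs, mul_zero, add_zero, mul_assoc,
      mul_inv_cancel₀ hne, mul_one, beta, beta, rad, rad, rad]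
    have h3 : deriv (fun t => Phi r t - Phi r' t) (‖z - ζ‖ ^ 2) =
        phi r (‖z - ζ‖ ^ 2) - phi r' (‖z - ζ‖ ^ 2) :=
      deriv_fun_sub ((contDiff_Phi r).differentiable (by simp)).differentiableAt
        ((contDiff_Phi r').differentiable (by simp)).differentiableAt
    rw [h3]
    push_cast
    rfl

theorem kappa_zero {r r' : ℝ} (hr : 0 < r) (hr' : 0 < r') (hrr : r' ≤ r) (ζ : ℂ) :
    ∀ z ∉ Metric.closedBall ζ r, kappa r r' ζ z = 0 := by
  intro z hz
  rw [Metric.mem_closedBall, not_le, dist_eq_norm] at hz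
  have h1 : r ^ 2 ≤ ‖z - ζ‖ ^ 2 := by gcongr
  have h2 : r' ^ 2 ≤ ‖z - ζ‖ ^ 2 := (by gcongr : r' ^ 2 ≤ r ^ 2).trans h1
  rw [kappa, rad, Phi_one hr h1, Phi_one hr' h2]
  simp

theorem prim_zero {r : ℝ} (hr : 0 < r) (ζ : ℂ) :
    ∀ z ∉ Metric.closedBall ζ r, rad (Phi r) (z - ζ) - 1 = 0 := by
  intro z hz
  rw [Metric.mem_closedBall, not_le, dist_eq_norm] at hz
  have h1 : r ^ 2 ≤ ‖z - ζ‖ ^ 2 := by gcongr
  rw [rad, Phi_one hr h1]
  simp

theorem contDiff_prim (r : ℝ) (ζ : ℂ) : ContDiff ℝ ∞ fun z => rad (Phi r) (z - ζ) - 1 :=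
  ((contDiff_rad (contDiff_Phi r)).comp (contDiff_id.sub contDiff_const)).sub contDiff_const

/-- The mass of the bump is nonzero. -/
theorem integral_beta_ne_zero {r : ℝ} (hr : 0 < r) (ζ : ℂ) : ∫ z, beta r ζ z ≠ 0 := by
  have h1 : ∫ z, beta r ζ z = ((∫ z : ℂ, phi r (‖z - ζ‖ ^ 2) : ℝ) : ℂ) := integral_ofReal
  rw [h1]
  have hcont : Continuous fun z : ℂ => phi r (‖z - ζ‖ ^ 2) :=
    (contDiff_phi r).continuous.comp (by fun_prop)
  have hcs : HasCompactSupport fun z : ℂ => phi r (‖z - ζ‖ ^ 2) := by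
    refine HasCompactSupport.intro (isCompact_closedBall ζ r) fun z hz => ?_
    rw [Metric.mem_closedBall, not_le, dist_eq_norm] at hz
    exact phi_of_lt hr (by gcongr)
  obtain ⟨t, ht0, ht⟩ := exists_phi_ne_zero
  have hne : phi r (‖(ζ + (r * Real.sqrt t : ℝ)) - ζ‖ ^ 2) ≠ 0 := by
    rw [phi_scale]
    have : ‖(ζ + ((r * Real.sqrt t : ℝ) : ℂ)) - ζ‖ ^ 2 / r ^ 2 = t := by
      rw [add_sub_cancel_left, norm_real, Real.norm_eq_abs, sq_abs, mul_pow, Real.sq_sqrt ht0]
      field_simp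
    rw [this]
    exact mul_ne_zero (by positivity) ht
  have := hcont.integral_pos_of_hasCompactSupport_nonneg_nonzero hcs
    (fun z => phi_nonneg hr _) (μ := volume) hne
  exact_mod_cast this.ne'

end Groth.Agent.An.H410.Bump
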