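import Mathlib.Topology.Covering.Basic
import Mathlib.Analysis.Complex.Basic
import Mathlib.Analysis.Calculus.ContDiff.Basic
import Mathlib.Analysis.Calculus.ContDiff.Defs
import Mathlib.Algebra.BigOperators.Finprod

/-!
# Finite coverings of an open subset of the plane: sections, sheets, smooth functions, trace
-/

set_option autoImplicit false

open Topology Filter Set

universe u

namespace Groth.Agent.An.H410.Cover

variable {E : Type u} [TopologicalSpace E]

/-- `s` is a continuous section of `p` over the open set `U`. -/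
structure IsSec (p : E → ℂ) (U : Set ℂ) (s : ℂ → E) : Prop where
  isOpen : IsOpen U
  cont : ContinuousOn s U
  proj : ∀ z ∈ U, p (s z) = z

/-- `p : E → ℂ` is a finite covering of the open set `B`. -/
structure FinCov (p : E → ℂ) (B : Set ℂ) : Prop where
  isOpen : IsOpen B
  mem : ∀ e, p e ∈ B
  cov : IsCoveringMapOn p B
  fin : ∀ z, (p ⁻¹' {z}).Finite

variable {p : E → ℂ} {B : Set ℂ}

theorem IsSec.mono {U V : Set ℂ} {s : ℂ → E} (h : IsSec p U s) (hV : IsOpen V) (hVU : V ⊆ U) :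
    IsSec p V s := ⟨hV, h.cont.mono hVU, fun z hz => h.proj z (hVU hz)⟩

theorem IsSec.congr {U : Set ℂ} {s t : ℂ → E} (h : IsSec p U s) (hst : ∀ z ∈ U, t z = s z) :
    IsSec p U t := ⟨h.isOpen, h.cont.congr hst, fun z hz => by rw [hst z hz]; exact h.proj z hz⟩

theorem IsSec.continuousAt {U : Set ℂ} {s : ℂ → E} (h : IsSec p U s) {z : ℂ} (hz : z ∈ U) :
    ContinuousAt s z := h.cont.continuousAt (h.isOpen.mem_nhds hz)

theorem IsSec.injOn {U : Set ℂ} {s : ℂ → E} (h : IsSec p U s) : InjOn s U := by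
  intro z hz w hw e
  rw [← h.proj z hz, ← h.proj w hw, e]

theorem FinCov.locHomeo (h : FinCov p B) : IsLocalHomeomorph p := by
  rw [isLocalHomeomorph_iff_isLocalHomeomorphOn_univ]
  have := h.cov.isLocalHomeomorphOn
  have e : p ⁻¹' B = univ := by ext x; simp [h.mem x]
  rwa [e] at this

theorem FinCov.continuous (h : FinCov p B) : Continuous p := h.locHomeo.continuous

/-- Two sections of a local homeomorphism agreeing at a point agree near the point. -/
theorem IsSec.eventuallyEq (hp : IsLocalHomeomorph p) {U V : Set ℂ} {s t : ℂ → E}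
    (hs : IsSec p U s) (ht : IsSec p V t) {z : ℂ} (hz : z ∈ U) (hz' : z ∈ V) (h : s z = t z) :
    s =ᶠ[𝓝 z] t := by
  obtain ⟨φ, hφ, hpφ⟩ := hp (s z)
  have h1 : ∀ᶠ w in 𝓝 z, s w ∈ φ.source :=
    (hs.continuousAt hz).eventually (φ.open_source.mem_nhds hφ)
  have h2 : ∀ᶠ w in 𝓝 z, t w ∈ φ.source :=
    (ht.continuousAt hz').eventually (φ.open_source.mem_nhds (h ▸ hφ))
  filter_upwards [h1, h2, hs.isOpen.mem_nhds hz, ht.isOpen.mem_nhds hz'] with w h1 h2 h3 h4
  apply φ.injOn h1 h2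
  rw [← hpφ, hs.proj w h3, ht.proj w h4]

theorem IsSec.eventuallyEq' (hp : IsLocalHomeomorph p) {U : Set ℂ} {s : ℂ → E}
    (hs : IsSec p U s) {e : E} (he : p e ∈ U) (h : s (p e) = e) :
    ∀ᶠ e' in 𝓝 e, s (p e') = e' := by
  obtain ⟨φ, hφ, hpφ⟩ := hp e
  have hc : ContinuousAt (fun e' => s (p e')) e :=
    ContinuousAt.comp (f := p) (g := s) (hs.continuousAt he) hp.continuous.continuousAt
  have h1 : ∀ᶠ e' in 𝓝 e, s (p e') ∈ φ.source := by
    apply hc.eventually
    simp only [h]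
    exact φ.open_source.mem_nhds hφ
  have h3 : ∀ᶠ e' in 𝓝 e, p e' ∈ U := hp.continuous.continuousAt.eventually (hs.isOpen.mem_nhds he)
  filter_upwards [h1, φ.open_source.mem_nhds hφ, h3] with e' h1 h2 h3
  apply φ.injOn h1 h2
  rw [← hpφ, hs.proj _ h3]

/-- Two sections of a separated local homeomorphism disagreeing at a point disagree near the
point. -/
theorem IsSec.eventuallyNe (hp : IsSeparatedMap p) {U V : Set ℂ} {s t : ℂ → E}
    (hs : IsSec p U s) (ht : IsSec p V t) {z : ℂ} (hz : z ∈ U) (hz' : z ∈ V) (h : s z ≠ t z) :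
    ∀ᶠ w in 𝓝 z, s w ≠ t w := by
  obtain ⟨O₁, O₂, h1, h2, hO₁, hO₂, hd⟩ := hp (s z) (t z) (by rw [hs.proj z hz, ht.proj z hz']) h
  filter_upwards [(hs.continuousAt hz).eventually (h1.mem_nhds hO₁),
    (ht.continuousAt hz').eventually (h2.mem_nhds hO₂)] with w h3 h4 h5
  exact Set.disjoint_left.1 hd h3 (h5 ▸ h4)

theorem FinCov.separated (h : FinCov p B) : IsSeparatedMap p := by
  intro e₁ e₂ he hne
  obtain ⟨inst, U, hxU, hU, hfU, H, hH⟩ := h.cov (p e₁) (h.mem e₁)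
  have h1 : e₁ ∈ p ⁻¹' U := hxU
  have h2 : e₂ ∈ p ⁻¹' U := by rw [mem_preimage, ← he]; exact hxU
  have hidx : (H ⟨e₁, h1⟩).2 ≠ (H ⟨e₂, h2⟩).2 := by
    intro hc
    apply hne
    have : H ⟨e₁, h1⟩ = H ⟨e₂, h2⟩ := by
      apply Prod.ext _ hc
      apply Subtype.ext
      rw [hH, hH]
      exact he
    exact congrArg Subtype.val (H.injective this)
  have hop : ∀ i, IsOpen (Subtype.val '' {x : p ⁻¹' U | (H x).2 = i}) := by
    intro i
    apply hfU.isOpenMap_subtype_val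
    have : Continuous fun x : p ⁻¹' U => (H x).2 := continuous_snd.comp H.continuous
    exact (isOpen_discrete {i}).preimage this
  refine ⟨_, _, hop _, hop _, ⟨⟨e₁, h1⟩, rfl, rfl⟩, ⟨⟨e₂, h2⟩, rfl, rfl⟩, ?_⟩
  rw [Set.disjoint_left]
  rintro _ ⟨x, hx, rfl⟩ ⟨y, hy, hxy⟩
  have : x = y := Subtype.ext hxy.symm
  subst this
  exact hidx (hx.symm.trans hy)

/-- Local sheets of a finite covering. -/
theorem FinCov.exists_sheets (h : FinCov p B) {z₀ : ℂ} (hz₀ : z₀ ∈ B) :
    ∃ (I : Type u) (_ : Fintype I) (U : Set ℂ) (s : I → ℂ → E), z₀ ∈ U ∧ IsOpen U ∧ U ⊆ B ∧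
      (∀ i, IsSec p U (s i)) ∧ (∀ e, p e ∈ U → ∃ i, s i (p e) = e) ∧
      (∀ z ∈ U, ∀ i j, s i z = s j z → i = j) := by
  obtain ⟨inst, U, hxU, hU, hfU, H, hH⟩ := h.cov z₀ hz₀
  have hfin : Finite (p ⁻¹' {z₀}) := h.fin z₀
  classical
  let s : (p ⁻¹' {z₀}) → ℂ → E := fun i z => if hz : z ∈ U then (H.symm (⟨z, hz⟩, i) : E) else i
  have hs : ∀ i z (hz : z ∈ U), s i z = (H.symm (⟨z, hz⟩, i) : E) := fun i z hz => dif_pos hz
  have hproj : ∀ i z, z ∈ U → p (s i z) = z := by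
    intro i z hz
    rw [hs i z hz, ← hH]
    simp
  refine ⟨p ⁻¹' {z₀}, Fintype.ofFinite _, U ∩ B, s, ⟨hxU, hz₀⟩, hU.inter h.isOpen,
    inter_subset_right, fun i => ?_, ?_, ?_⟩
  · refine IsSec.mono (U := U) ⟨hU, ?_, hproj i⟩ (hU.inter h.isOpen) inter_subset_left
    rw [continuousOn_iff_continuous_domRestrict]
    have : U.domRestrict (s i) = fun z : U => (H.symm (z, i) : E) := by
      ext z
      exact hs i z.1 z.2
    rw [this]
    exact continuous_subtype_val.comp (H.symm.continuous.comp (Continuous.prodMk_left i))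
  · intro e he
    refine ⟨(H ⟨e, he.1⟩).2, ?_⟩
    rw [hs _ _ he.1]
    have : ((⟨p e, he.1⟩ : U), (H ⟨e, he.1⟩).2) = H ⟨e, he.1⟩ := by
      apply Prod.ext
      · apply Subtype.ext
        exact (hH ⟨e, he.1⟩).symm
      · rfl
    rw [this, H.symm_apply_apply]
  · intro z hz i j hij
    rw [hs i z hz.1, hs j z hz.1] at hij
    have := H.symm.injective (Subtype.ext hij)
    exact congrArg Prod.snd this

/-- The trace of a function on the covering. -/
noncomputable def Tr (p : E → ℂ) (f : E → ℂ) (z : ℂ) : ℂ := ∑ᶠ e : p ⁻¹' {z}, f e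

theorem Tr_eq_sum {I : Type u} [Fintype I] {U : Set ℂ} {s : I → ℂ → E}
    (hs : ∀ i, IsSec p U (s i)) (hsur : ∀ e, p e ∈ U → ∃ i, s i (p e) = e)
    (hinj : ∀ z ∈ U, ∀ i j, s i z = s j z → i = j) (f : E → ℂ) {z : ℂ} (hz : z ∈ U) :
    Tr p f z = ∑ i, f (s i z) := by
  rw [Tr, ← finsum_eq_sum_of_fintype]
  symm
  refine finsum_eq_of_bijective (fun i => (⟨s i z, (hs i).proj z hz⟩ : p ⁻¹' {z})) ⟨?_, ?_⟩ ?_
  · intro i j hij
    exact hinj z hz i j (congrArg Subtype.val hij)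
  · rintro ⟨e, he⟩
    have he' : p e = z := he
    obtain ⟨i, hi⟩ := hsur e (by rw [he']; exact hz)
    refine ⟨i, Subtype.ext ?_⟩
    change s i z = e
    rw [← he']
    exact hi
  · intro i; rfl

omit [TopologicalSpace E] in
theorem Tr_eq_zero {f : E → ℂ} {z : ℂ} (h : ∀ e, p e = z → f e = 0) : Tr p f z = 0 := by
  rw [Tr]
  have : (fun e : p ⁻¹' {z} => f e) = fun _ => 0 := by
    ext e
    exact h e e.2
  rw [this, finsum_zero]

theorem Tr_add (h : FinCov p B) (f g : E → ℂ) (z : ℂ) :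
    Tr p (fun e => f e + g e) z = Tr p f z + Tr p g z := by
  have : Finite (p ⁻¹' {z}) := h.fin z
  exact finsum_add_distrib (Set.toFinite _) (Set.toFinite _)

theorem Tr_smul (h : FinCov p B) (c : ℂ) (f : E → ℂ) (z : ℂ) :
    Tr p (fun e => c * f e) z = c * Tr p f z := by
  have : Finite (p ⁻¹' {z}) := h.fin z
  exact (mul_finsum _ _).symm

theorem Tr_base_mul (h : FinCov p B) (w : ℂ → ℂ) (f : E → ℂ) (z : ℂ) :
    Tr p (fun e => w (p e) * f e) z = w z * Tr p f z := by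
  rw [← Tr_smul h, Tr, Tr]
  refine finsum_congr fun e => ?_
  have : p e = z := e.2
  rw [this]

end Groth.Agent.An.H410.Cover
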