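import Mathlib.Analysis.Complex.Basic
import Mathlib.Analysis.InnerProductSpace.Defs
import Mathlib.Analysis.LocallyConvex.HahnBanach
import Mathlib.Analysis.Normed.Module.HahnBanach

/-!
# Hahn-Banach for a pre-inner product: solving `L (T k) = ℓ k` with bounds
-/

set_option autoImplicit false

namespace Groth.Agent.An.H410.HB

open RCLike

variable {V V' : Type*} [AddCommGroup V] [Module ℂ V] [AddCommGroup V'] [Module ℂ V']

/-- The seminorm attached to a positive semidefinite hermitian form. -/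
noncomputable def semi (c : PreInnerProductSpace.Core ℂ V) : Seminorm ℂ V :=
  letI := @InnerProductSpace.Core.toSeminormedAddCommGroup ℂ V _ _ _ c
  letI := @InnerProductSpace.Core.toNormedSpace ℂ V _ _ _ c
  normSeminorm ℂ V

theorem semi_apply (c : PreInnerProductSpace.Core ℂ V) (x : V) :
    semi c x = Real.sqrt (c.inner x x).re := rfl

theorem norm_inner_le (c : PreInnerProductSpace.Core ℂ V) (x y : V) :
    ‖c.inner x y‖ ≤ semi c x * semi c y :=
  @InnerProductSpace.Core.norm_inner_le_norm ℂ V _ _ _ c x y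

/-- A functional dominated by `C * p (T k)` is of the form `L ∘ T` with `‖L h‖ ≤ C * p h`. -/
theorem exists_functional (p : Seminorm ℂ V) (T : V' →ₗ[ℂ] V) (l : V' →ₗ[ℂ] ℂ) (C : ℝ)
    (hC : 0 ≤ C) (h : ∀ k, ‖l k‖ ≤ C * p (T k)) :
    ∃ L : V →ₗ[ℂ] ℂ, (∀ k, L (T k) = l k) ∧ ∀ x, ‖L x‖ ≤ C * p x := by
  have hker : ∀ k, T k = 0 → l k = 0 := by
    intro k hk
    have := h k
    rw [hk, map_zero, mul_zero] at this
    exact norm_le_zero_iff.1 this
  have hkk : LinearMap.ker T ≤ LinearMap.ker l := fun k hk => by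
    rw [LinearMap.mem_ker] at hk ⊢; exact hker k hk
  let f : LinearMap.range T →ₗ[ℂ] ℂ :=
    ((LinearMap.ker T).liftQ l hkk).comp (T.quotKerEquivRange.symm : _ →ₗ[ℂ] _)
  have hf : ∀ k, f ⟨T k, LinearMap.mem_range_self T k⟩ = l k := by
    intro k
    change ((LinearMap.ker T).liftQ l hkk) (T.quotKerEquivRange.symm ⟨T k, _⟩) = l k
    have : T.quotKerEquivRange.symm ⟨T k, LinearMap.mem_range_self T k⟩ =
        (LinearMap.ker T).mkQ k := by
      rw [LinearEquiv.symm_apply_eq]
      exact Subtype.ext (LinearMap.quotKerEquivRange_apply_mk T k).symm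
    rw [this]
    simp
  let C' : NNReal := ⟨C, hC⟩
  obtain ⟨g, hg1, hg2⟩ := Module.Dual.exists_extension_of_le_seminorm (𝕜 := ℂ)
    (LinearMap.range T) f (p := C' • p) (by
      rintro ⟨_, k, rfl⟩
      rw [hf]
      exact h k)
  refine ⟨g, fun k => ?_, fun x => hg2 x⟩
  rw [← hf k]
  exact hg1 ⟨T k, LinearMap.mem_range_self T k⟩

end Groth.Agent.An.H410.HB
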