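import Groth.Agent.An.H410.Trace
import Groth.Agent.An.H410.HB

/-!
# The Cauchy-Riemann operator on a finite covering of a plane domain and the basic estimate
-/

set_option autoImplicit false

open Topology Filter Set MeasureTheory Complex
open scoped ContDiff ComplexConjugate

universe u

namespace Groth.Agent.An.H410.Dbar

open Groth.Agent.An.H410.Cover Groth.Agent.An.H410.Smooth Groth.Agent.An.H410.Trace

variable {E : Type u} [TopologicalSpace E] {p : E → ℂ} {B : Set ℂ}

/-- The operator `∂/∂z`. -/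
noncomputable def dz (p : E → ℂ) (f : E → ℂ) (e : E) : ℂ := (D p f 1 e - I * D p f I e) / 2

/-- The operator `∂/∂z̄`. -/
noncomputable def dzb (p : E → ℂ) (f : E → ℂ) (e : E) : ℂ := (D p f 1 e + I * D p f I e) / 2

section rules

variable (hp : IsLocalHomeomorph p) {f g : E → ℂ} (hf : Sm p f) (hg : Sm p g) (e : E)

include hp hf

theorem Sm.dz : Sm p (dz p f) := by
  have h := (((hf.D hp 1).sub ((hf.D hp I).const_mul I)).const_mul (1 / 2))
  intro U s hs
  refine (h U s hs).congr fun z _ => ?_
  simp only [Dbar.dz]; ring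

theorem Sm.dzb : Sm p (dzb p f) := by
  have h := (((hf.D hp 1).add ((hf.D hp I).const_mul I)).const_mul (1 / 2))
  intro U s hs
  refine (h U s hs).congr fun z _ => ?_
  simp only [Dbar.dzb]; ring

theorem dz_star : dz p (fun e => conj (f e)) e = conj (dzb p f e) := by
  simp only [dz, dzb, D_star hp hf, map_div₀, map_add, map_mul, conj_I, map_ofNat]
  ring

theorem dzb_star : dzb p (fun e => conj (f e)) e = conj (dz p f e) := by
  simp only [dz, dzb, D_star hp hf, map_div₀, map_sub, map_mul, conj_I, map_ofNat]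
  ring

theorem dz_const_mul (c : ℂ) : dz p (fun e => c * f e) e = c * dz p f e := by
  simp only [dz, D_const_mul hp hf]; ring

theorem dzb_const_mul (c : ℂ) : dzb p (fun e => c * f e) e = c * dzb p f e := by
  simp only [dzb, D_const_mul hp hf]; ring

theorem dz_dzb : dz p (dzb p f) e = dzb p (dz p f) e := by
  have h1 := hf.D hp 1
  have h2 := hf.D hp I
  have a : ∀ v, D p (dzb p f) v e = (D p (D p f 1) v e + I * D p (D p f I) v e) / 2 := by
    intro v
    have : dzb p f = fun e => (1 / 2 : ℂ) * (D p f 1 e + I * D p f I e) := by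
      ext e; simp only [dzb]; ring
    rw [this, D_const_mul hp (h1.add (h2.const_mul I)), D_add hp h1 (h2.const_mul I),
      D_const_mul hp h2]
    ring
  have b : ∀ v, D p (dz p f) v e = (D p (D p f 1) v e - I * D p (D p f I) v e) / 2 := by
    intro v
    have : dz p f = fun e => (1 / 2 : ℂ) * (D p f 1 e - I * D p f I e) := by
      ext e; simp only [dz]; ring
    rw [this, D_const_mul hp (h1.sub (h2.const_mul I)), D_sub hp h1 (h2.const_mul I),
      D_const_mul hp h2]
    ring
  rw [dz, dzb, a, a, b, b, D_comm hp hf 1 I e]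
  ring

include hg

theorem dz_mul : dz p (fun e => f e * g e) e = dz p f e * g e + f e * dz p g e := by
  simp only [dz, D_mul hp hf hg]; ring

theorem dzb_mul : dzb p (fun e => f e * g e) e = dzb p f e * g e + f e * dzb p g e := by
  simp only [dzb, D_mul hp hf hg]; ring

theorem dz_add : dz p (fun e => f e + g e) e = dz p f e + dz p g e := by
  simp only [dz, D_add hp hf hg]; ring

theorem dzb_add : dzb p (fun e => f e + g e) e = dzb p f e + dzb p g e := by
  simp only [dzb, D_add hp hf hg]; ring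

end rules

theorem D_p (hp : IsLocalHomeomorph p) (v : ℂ) (e : E) : D p (fun e => p e) v e = v := by
  have := D_base hp (fun z => z) v e
  rw [this]; simp

theorem Sm_p : Sm p (fun e => p e) := Sm.base contDiff_id

theorem dz_p (hp : IsLocalHomeomorph p) (e : E) : dz p (fun e => p e) e = 1 := by
  simp only [dz, D_p hp]
  rw [I_mul_I]; norm_num

theorem dzb_p (hp : IsLocalHomeomorph p) (e : E) : dzb p (fun e => p e) e = 0 := by
  simp only [dzb, D_p hp]
  rw [I_mul_I]; norm_num

theorem dz_pb (hp : IsLocalHomeomorph p) (e : E) : dz p (fun e => conj (p e)) e = 0 := by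
  rw [dz_star hp Sm_p, dzb_p hp, map_zero]

theorem dzb_pb (hp : IsLocalHomeomorph p) (e : E) : dzb p (fun e => conj (p e)) e = 1 := by
  rw [dzb_star hp Sm_p, dz_p hp, map_one]

theorem dz_const (hp : IsLocalHomeomorph p) (c : ℂ) (e : E) : dz p (fun _ => c) e = 0 := by
  simp [dz, D_const hp]

theorem dzb_const (hp : IsLocalHomeomorph p) (c : ℂ) (e : E) : dzb p (fun _ => c) e = 0 := by
  simp [dzb, D_const hp]

/-- The weight. -/
noncomputable def W (z : ℂ) : ℂ := 1 + z * conj z

theorem W_ofReal (z : ℂ) : W z = ((1 + ‖z‖ ^ 2 : ℝ) : ℂ) := by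
  rw [W, mul_conj, normSq_eq_norm_sq]
  push_cast
  rfl

theorem W_ne_zero (z : ℂ) : W z ≠ 0 := by
  rw [W_ofReal]
  have : (0 : ℝ) < 1 + ‖z‖ ^ 2 := by positivity
  exact_mod_cast this.ne'

theorem conj_W (z : ℂ) : conj (W z) = W z := by rw [W_ofReal, conj_ofReal]

theorem contDiff_W : ContDiff ℝ ∞ W :=
  contDiff_const.add (contDiff_id.mul Complex.conjCLE.contDiff)

theorem contDiff_Winv : ContDiff ℝ ∞ (fun z => (W z)⁻¹) := contDiff_W.inv W_ne_zero

theorem dz_W (hp : IsLocalHomeomorph p) (e : E) : dz p (fun e => W (p e)) e = conj (p e) := by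
  have : (fun e => W (p e)) = fun e => (fun _ => (1 : ℂ)) e + p e * conj (p e) := rfl
  rw [this, dz_add hp (Sm.const 1) (Sm_p.mul Sm_p.star), dz_mul hp Sm_p Sm_p.star, dz_const hp,
    dz_p hp, dz_pb hp]
  ring

theorem dzb_W (hp : IsLocalHomeomorph p) (e : E) : dzb p (fun e => W (p e)) e = p e := by
  have : (fun e => W (p e)) = fun e => (fun _ => (1 : ℂ)) e + p e * conj (p e) := rfl
  rw [this, dzb_add hp (Sm.const 1) (Sm_p.mul Sm_p.star), dzb_mul hp Sm_p Sm_p.star, dzb_const hp,
    dzb_p hp, dzb_pb hp]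
  ring

/-- The pointwise Bochner-type identity. -/
theorem identity (hp : IsLocalHomeomorph p) {k : E → ℂ} (hk : Sm p k) (e : E) :
    W (p e) * (conj (dzb p k e) * dzb p k e) - (W (p e))⁻¹ * (conj (k e) * k e) -
      (W (p e))⁻¹ * (conj (conj (p e) * k e + W (p e) * dz p k e) *
        (conj (p e) * k e + W (p e) * dz p k e)) =
    dz p (fun e => W (p e) * (conj (k e) * dzb p k e)) e -
      dzb p (fun e => W (p e) * (conj (k e) * dz p k e)) e -
      dzb p (fun e => conj (p e) * (k e * conj (k e))) e := by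
  have hW : Sm p (fun e => W (p e)) := Sm.base contDiff_W
  have hkb := hk.star
  have h1 := Sm.dz hp hk
  have h2 := Sm.dzb hp hk
  rw [dz_mul hp hW (hkb.mul h2), dz_mul hp hkb h2, dz_W hp, dz_star hp hk,
    dzb_mul hp hW (hkb.mul h1), dzb_mul hp hkb h1, dzb_W hp, dzb_star hp hk,
    dzb_mul hp Sm_p.star (hk.mul hkb), dzb_mul hp hk hkb, dzb_pb hp, dzb_star hp hk, dz_dzb hp hk]
  simp only [map_add, map_mul, conj_conj, conj_W]
  have hne := W_ne_zero (p e)
  field_simp
  rw [W]
  ring

/-- Smooth functions with compact support. -/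
def VS (p : E → ℂ) (B : Set ℂ) : Submodule ℂ (E → ℂ) where
  carrier := {f | Sm p f ∧ CS p B f}
  add_mem' hf hg := ⟨hf.1.add hg.1, hf.2.add hg.2⟩
  zero_mem' := ⟨Sm.const 0, ∅, isCompact_empty, empty_subset _, fun _ _ => rfl⟩
  smul_mem' c _ hf := ⟨hf.1.const_mul c, hf.2.mul_left fun _ => c⟩

theorem mem_VS {f : E → ℂ} : f ∈ VS p B ↔ Sm p f ∧ CS p B f := Iff.rfl

end Groth.Agent.An.H410.Dbar
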