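import Groth.Agent.An.H410.Dbar

/-!
# The basic `L²` estimate for `∂̄` on a finite covering of a plane domain and its dual form
-/

set_option autoImplicit false

open Topology Filter Set MeasureTheory Complex
open scoped ContDiff ComplexConjugate

universe u

namespace Groth.Agent.An.H410.Estimate

open Groth.Agent.An.H410.Cover Groth.Agent.An.H410.Smooth Groth.Agent.An.H410.Trace
  Groth.Agent.An.H410.Dbar Groth.Agent.An.H410.HB

variable {E : Type u} [TopologicalSpace E] {p : E → ℂ} {B : Set ℂ}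

/-- Integral over the covering. -/
noncomputable def intT (p : E → ℂ) (f : E → ℂ) : ℂ := ∫ z, Tr p f z

theorem intT_add (h : FinCov p B) {f g : E → ℂ} (hf : f ∈ VS p B) (hg : g ∈ VS p B) :
    intT p (fun e => f e + g e) = intT p f + intT p g := by
  rw [intT, intT, intT, ← integral_add (integrable_Tr h hf.1 hf.2) (integrable_Tr h hg.1 hg.2)]
  congr 1
  ext z
  exact Tr_add h f g z

theorem intT_const_mul (h : FinCov p B) (f : E → ℂ) (c : ℂ) :
    intT p (fun e => c * f e) = c * intT p f := by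
  rw [intT, intT, ← integral_const_mul]
  congr 1
  ext z
  exact Tr_smul h c f z

theorem mul_mem_VS {f g : E → ℂ} (hf : Sm p f) (hg : g ∈ VS p B) : (fun e => f e * g e) ∈ VS p B :=
  ⟨hf.mul hg.1, hg.2.mul_left f⟩

theorem sub_mem_VS {f g : E → ℂ} (hf : f ∈ VS p B) (hg : g ∈ VS p B) :
    (fun e => f e - g e) ∈ VS p B := (VS p B).sub_mem hf hg

theorem add_mem_VS {f g : E → ℂ} (hf : f ∈ VS p B) (hg : g ∈ VS p B) :
    (fun e => f e + g e) ∈ VS p B := (VS p B).add_mem hf hg

theorem star_mem_VS {f : E → ℂ} (hf : f ∈ VS p B) : (fun e => conj (f e)) ∈ VS p B :=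
  ⟨hf.1.star, hf.2.star⟩

theorem D_mem_VS (hp : IsLocalHomeomorph p) {f : E → ℂ} (hf : f ∈ VS p B) (v : ℂ) :
    D p f v ∈ VS p B :=
  ⟨hf.1.D hp v, hf.2.D hp v⟩

theorem dz_mem_VS (hp : IsLocalHomeomorph p) {f : E → ℂ} (hf : f ∈ VS p B) :
    dz p f ∈ VS p B := by
  have h1 := (VS p B).smul_mem (1 / 2) ((VS p B).sub_mem (D_mem_VS hp hf 1)
    ((VS p B).smul_mem I (D_mem_VS hp hf I)))
  convert h1 using 1
  ext e
  simp only [dz, Pi.smul_apply, Pi.sub_apply, smul_eq_mul]
  ring

theorem dzb_mem_VS (hp : IsLocalHomeomorph p) {f : E → ℂ} (hf : f ∈ VS p B) :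
    dzb p f ∈ VS p B := by
  have h1 := (VS p B).smul_mem (1 / 2) ((VS p B).add_mem (D_mem_VS hp hf 1)
    ((VS p B).smul_mem I (D_mem_VS hp hf I)))
  convert h1 using 1
  ext e
  simp only [dzb, Pi.smul_apply, Pi.add_apply, smul_eq_mul]
  ring

theorem intT_D (h : FinCov p B) {f : E → ℂ} (hf : f ∈ VS p B) (v : ℂ) : intT p (D p f v) = 0 :=
  integral_Tr_D h hf.1 hf.2 v

theorem intT_sub (h : FinCov p B) {f g : E → ℂ} (hf : f ∈ VS p B) (hg : g ∈ VS p B) :
    intT p (fun e => f e - g e) = intT p f - intT p g := by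
  have := intT_add h hf ((VS p B).smul_mem (-1) hg)
  have h2 := intT_const_mul h g (-1)
  simp only [Pi.smul_apply, smul_eq_mul] at this
  have h3 : (fun e => f e - g e) = fun e => f e + -1 * g e := by ext e; ring
  rw [h3, this]
  have h4 : ((-1 : ℂ) • g) = fun e => -1 * g e := rfl
  rw [h4, h2]; ring

theorem intT_dz (h : FinCov p B) {f : E → ℂ} (hf : f ∈ VS p B) : intT p (dz p f) = 0 := by
  have hp := h.locHomeo
  have h1 : dz p f = fun e => (1 / 2 : ℂ) * (D p f 1 e - I * D p f I e) := by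
    ext e; simp only [dz]; ring
  have h2 : (fun e => I * D p f I e) ∈ VS p B := (VS p B).smul_mem I (D_mem_VS hp hf I)
  rw [h1, intT_const_mul h, intT_sub h (D_mem_VS hp hf 1) h2, intT_const_mul h, intT_D h hf,
    intT_D h hf]
  ring

theorem intT_dzb (h : FinCov p B) {f : E → ℂ} (hf : f ∈ VS p B) : intT p (dzb p f) = 0 := by
  have hp := h.locHomeo
  have h1 : dzb p f = fun e => (1 / 2 : ℂ) * (D p f 1 e + I * D p f I e) := by
    ext e; simp only [dzb]; ring
  have h2 : (fun e => I * D p f I e) ∈ VS p B := (VS p B).smul_mem I (D_mem_VS hp hf I)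
  rw [h1, intT_const_mul h, intT_add h (D_mem_VS hp hf 1) h2, intT_const_mul h, intT_D h hf,
    intT_D h hf]
  ring

theorem Tr_star (h : FinCov p B) (f : E → ℂ) (z : ℂ) :
    Tr p (fun e => conj (f e)) z = conj (Tr p f z) := by
  have : Finite (p ⁻¹' {z}) := h.fin z
  have := Fintype.ofFinite (p ⁻¹' {z})
  rw [Tr, Tr, finsum_eq_sum_of_fintype, finsum_eq_sum_of_fintype, map_sum]

theorem Tr_re_nonneg (h : FinCov p B) {f : E → ℂ} {z : ℂ} (hf : ∀ e, p e = z → 0 ≤ (f e).re) :
    0 ≤ (Tr p f z).re := by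
  have : Finite (p ⁻¹' {z}) := h.fin z
  have := Fintype.ofFinite (p ⁻¹' {z})
  rw [Tr, finsum_eq_sum_of_fintype, re_sum]
  exact Finset.sum_nonneg fun e _ => hf e e.2

theorem intT_star (h : FinCov p B) (f : E → ℂ) :
    intT p (fun e => conj (f e)) = conj (intT p f) := by
  rw [intT, intT, ← integral_conj]
  congr 1
  ext z
  exact Tr_star h f z

theorem intT_re_nonneg (h : FinCov p B) {f : E → ℂ} (hfV : f ∈ VS p B)
    (hf : ∀ e, 0 ≤ (f e).re) : 0 ≤ (intT p f).re := by
  rw [intT]
  have h1 := reCLM.integral_comp_comm (integrable_Tr h hfV.1 hfV.2)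
  have h2 : (∫ z, Tr p f z).re = ∫ z, (Tr p f z).re := h1.symm
  rw [h2]
  exact integral_nonneg fun z => Tr_re_nonneg h fun e _ => hf e

/-- The weighted hermitian form on compactly supported smooth functions. -/
@[instance_reducible]
noncomputable def core (h : FinCov p B) (w : ℂ → ℝ) (hw : ContDiff ℝ ∞ fun z => (w z : ℂ))
    (hw0 : ∀ z, 0 ≤ w z) : PreInnerProductSpace.Core ℂ (VS p B) where
  inner f g := intT p (fun e => (w (p e) : ℂ) * (conj (f.1 e) * g.1 e))
  conj_inner_symm f g := by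
    change conj (intT p _) = intT p _
    rw [← intT_star h]
    congr 1
    ext e
    simp only [map_mul, conj_ofReal, conj_conj]
    ring
  re_inner_nonneg f := by
    have hm : (fun e => (w (p e) : ℂ) * (conj (f.1 e) * f.1 e)) ∈ VS p B :=
      mul_mem_VS (Sm.base hw) (mul_mem_VS f.2.1.star f.2)
    refine intT_re_nonneg h hm fun e => ?_
    rw [← normSq_eq_conj_mul_self, ← ofReal_mul, ofReal_re]
    exact mul_nonneg (hw0 _) (normSq_nonneg _)
  add_left f g k := by
    have hm : ∀ f : VS p B, (fun e => (w (p e) : ℂ) * (conj (f.1 e) * k.1 e)) ∈ VS p B :=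
      fun f => mul_mem_VS (Sm.base hw) (mul_mem_VS f.2.1.star k.2)
    rw [← intT_add h (hm f) (hm g)]
    congr 1
    ext e
    simp only [Submodule.coe_add, Pi.add_apply, map_add]
    ring
  smul_left f k c := by
    rw [← intT_const_mul h]
    congr 1
    ext e
    simp only [Submodule.coe_smul, Pi.smul_apply, smul_eq_mul, map_mul]
    ring

/-- The weight `1 + |z|²` as a real function. -/
noncomputable def wt (z : ℂ) : ℝ := 1 + ‖z‖ ^ 2

theorem wt_pos (z : ℂ) : 0 < wt z := by unfold wt; positivity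

theorem wt_eq (z : ℂ) : (wt z : ℂ) = W z := (W_ofReal z).symm

theorem contDiff_wt : ContDiff ℝ ∞ fun z => (wt z : ℂ) := by
  have : (fun z => (wt z : ℂ)) = W := by ext z; exact wt_eq z
  rw [this]; exact contDiff_W

/-- The operator `∂/∂z̄` on compactly supported smooth functions. -/
noncomputable def dzbV (h : FinCov p B) : VS p B →ₗ[ℂ] VS p B where
  toFun f := ⟨dzb p f.1, dzb_mem_VS h.locHomeo f.2⟩
  map_add' f g := by
    ext e
    exact dzb_add h.locHomeo f.2.1 g.2.1 e
  map_smul' c f := by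
    ext e
    exact dzb_const_mul h.locHomeo f.2.1 e c

/-- The basic estimate: `∫ |k|² / (1+|z|²) ≤ ∫ |∂̄ k|² (1+|z|²)`. -/
theorem basic (h : FinCov p B) {k : E → ℂ} (hk : k ∈ VS p B) :
    (intT p (fun e => (W (p e))⁻¹ * (conj (k e) * k e))).re ≤
      (intT p (fun e => W (p e) * (conj (dzb p k e) * dzb p k e))).re := by
  have hp := h.locHomeo
  have hW : Sm p (fun e => W (p e)) := Sm.base contDiff_W
  have hWi : Sm p (fun e => (W (p e))⁻¹) := Sm.base contDiff_Winv
  have hdz := dz_mem_VS hp hk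
  have hdzb := dzb_mem_VS hp hk
  have m1 : (fun e => W (p e) * (conj (dzb p k e) * dzb p k e)) ∈ VS p B :=
    mul_mem_VS hW (mul_mem_VS hdzb.1.star hdzb)
  have m2 : (fun e => (W (p e))⁻¹ * (conj (k e) * k e)) ∈ VS p B :=
    mul_mem_VS hWi (mul_mem_VS hk.1.star hk)
  have m3' : (fun e => conj (p e) * k e + W (p e) * dz p k e) ∈ VS p B :=
    (VS p B).add_mem (mul_mem_VS Sm_p.star hk) (mul_mem_VS hW hdz)
  have m3 : (fun e => (W (p e))⁻¹ * (conj (conj (p e) * k e + W (p e) * dz p k e) *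
        (conj (p e) * k e + W (p e) * dz p k e))) ∈ VS p B :=
    mul_mem_VS hWi (mul_mem_VS m3'.1.star m3')
  have n1 : (fun e => W (p e) * (conj (k e) * dzb p k e)) ∈ VS p B :=
    mul_mem_VS hW (mul_mem_VS hk.1.star hdzb)
  have n2 : (fun e => W (p e) * (conj (k e) * dz p k e)) ∈ VS p B :=
    mul_mem_VS hW (mul_mem_VS hk.1.star hdz)
  have n3 : (fun e => conj (p e) * (k e * conj (k e))) ∈ VS p B :=
    mul_mem_VS Sm_p.star (mul_mem_VS hk.1 (star_mem_VS hk))
  have key : intT p (fun e => W (p e) * (conj (dzb p k e) * dzb p k e) -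
      (W (p e))⁻¹ * (conj (k e) * k e) -
      (W (p e))⁻¹ * (conj (conj (p e) * k e + W (p e) * dz p k e) *
        (conj (p e) * k e + W (p e) * dz p k e))) = 0 := by
    have : (fun e => W (p e) * (conj (dzb p k e) * dzb p k e) -
      (W (p e))⁻¹ * (conj (k e) * k e) -
      (W (p e))⁻¹ * (conj (conj (p e) * k e + W (p e) * dz p k e) *
        (conj (p e) * k e + W (p e) * dz p k e))) = fun e =>
      dz p (fun e => W (p e) * (conj (k e) * dzb p k e)) e -
      dzb p (fun e => W (p e) * (conj (k e) * dz p k e)) e -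
      dzb p (fun e => conj (p e) * (k e * conj (k e))) e := by
      ext e
      exact identity hp hk.1 e
    rw [this, intT_sub h (sub_mem_VS (dz_mem_VS hp n1) (dzb_mem_VS hp n2))
      (dzb_mem_VS hp n3), intT_sub h (dz_mem_VS hp n1) (dzb_mem_VS hp n2), intT_dz h n1,
      intT_dzb h n2, intT_dzb h n3]
    ring
  rw [intT_sub h (sub_mem_VS m1 m2) m3, intT_sub h m1 m2] at key
  have h3 : 0 ≤ (intT p (fun e => (W (p e))⁻¹ * (conj (conj (p e) * k e + W (p e) * dz p k e) *
        (conj (p e) * k e + W (p e) * dz p k e)))).re := by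
    refine intT_re_nonneg h m3 fun e => ?_
    rw [← normSq_eq_conj_mul_self, ← wt_eq, ← ofReal_inv, ← ofReal_mul, ofReal_re]
    exact mul_nonneg (inv_nonneg.2 (wt_pos _).le) (normSq_nonneg _)
  have h4 := congrArg Complex.re key
  simp only [sub_re, zero_re] at h4
  linarith

/-- Existence of a functional `L` with `L (∂̄ k) = - ∫ g k` (a weak solution of `∂̄ u = g`),
bounded for the weighted `L²` norm. -/
theorem exists_solution (h : FinCov p B) {g : E → ℂ} (hg : g ∈ VS p B) :
    ∃ (L : VS p B →ₗ[ℂ] ℂ) (C : ℝ), 0 ≤ C ∧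
      (∀ k, L (dzbV h k) = - intT p (fun e => g e * k.1 e)) ∧
      ∀ k, ‖L k‖ ≤ C * Real.sqrt (intT p (fun e => W (p e) * (conj (k.1 e) * k.1 e))).re := by
  have hp := h.locHomeo
  let c := core h wt contDiff_wt fun z => (wt_pos z).le
  let l : VS p B →ₗ[ℂ] ℂ :=
    { toFun := fun k => - intT p (fun e => g e * k.1 e)
      map_add' := by
        intro k k'
        rw [← neg_add, ← intT_add h (mul_mem_VS hg.1 k.2) (mul_mem_VS hg.1 k'.2)]
        congr 2
        ext e
        simp only [Submodule.coe_add, Pi.add_apply]; ring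
      map_smul' := by
        intro a k
        rw [RingHom.id_apply, smul_eq_mul, mul_neg, ← intT_const_mul h]
        congr 2
        ext e
        simp only [Submodule.coe_smul, Pi.smul_apply, smul_eq_mul]; ring }
  let gb : VS p B := ⟨fun e => conj (g e), star_mem_VS hg⟩
  have hbound : ∀ k, ‖l k‖ ≤ semi c gb * semi c (dzbV h k) := by
    intro k
    let k' : VS p B := ⟨fun e => (W (p e))⁻¹ * k.1 e, mul_mem_VS (Sm.base contDiff_Winv) k.2⟩
    have h1 : l k = - c.inner gb k' := by
      change - intT p _ = - intT p _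
      congr 2
      ext e
      change g e * k.1 e = (wt (p e) : ℂ) * (conj (conj (g e)) * ((W (p e))⁻¹ * k.1 e))
      rw [conj_conj, wt_eq]
      have := W_ne_zero (p e)
      field_simp
    rw [h1, norm_neg]
    refine (norm_inner_le c gb k').trans ?_
    refine mul_le_mul_of_nonneg_left ?_ (apply_nonneg _ _)
    rw [semi_apply, semi_apply]
    apply Real.sqrt_le_sqrt
    have e1 : c.inner k' k' = intT p (fun e => (W (p e))⁻¹ * (conj (k.1 e) * k.1 e)) := by
      change intT p _ = intT p _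
      congr 1
      ext e
      change (wt (p e) : ℂ) * (conj ((W (p e))⁻¹ * k.1 e) * ((W (p e))⁻¹ * k.1 e)) = _
      rw [map_mul, map_inv₀, conj_W, wt_eq]
      have := W_ne_zero (p e)
      field_simp
    have e2 : c.inner (dzbV h k) (dzbV h k) =
        intT p (fun e => W (p e) * (conj (dzb p k.1 e) * dzb p k.1 e)) := by
      change intT p _ = intT p _
      congr 1
      ext e
      rw [wt_eq]
      rfl
    rw [e1, e2]
    exact basic h k.2
  obtain ⟨L, hL1, hL2⟩ := exists_functional (semi c) (dzbV h) l (semi c gb) (apply_nonneg _ _) hbound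
  refine ⟨L, semi c gb, apply_nonneg _ _, hL1, fun k => ?_⟩
  refine (hL2 k).trans_eq ?_
  rw [semi_apply c k]
  congr 3
  change intT p _ = intT p _
  congr 1
  ext e
  rw [wt_eq]

end Groth.Agent.An.H410.Estimate
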