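import Groth.Agent.An.H410.Weyl
import Mathlib.MeasureTheory.Measure.Lebesgue.VolumeOfBalls

/-!
# Existence of holomorphic functions of moderate growth on finite coverings of plane domains
-/

set_option autoImplicit false

open Topology Filter Set MeasureTheory Complex
open scoped ContDiff ComplexConjugate

universe u

namespace Groth.Agent.An.H410.Exist

open Groth.Agent.An.H410.Cover Groth.Agent.An.H410.Smooth Groth.Agent.An.H410.Trace
  Groth.Agent.An.H410.Dbar Groth.Agent.An.H410.Estimate Groth.Agent.An.H410.Push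
  Groth.Agent.An.H410.Bump Groth.Agent.An.H410.Weyl

variable {E : Type u} [TopologicalSpace E] {p : E → ℂ} {B : Set ℂ}

theorem norm_intT_le {U : Set ℂ} {s : ℂ → E} (h : FinCov p B) (hs : IsSec p U s)
    {ψ : ℂ → ℂ} {ζ : ℂ} {ρ A : ℝ} (hρ : 0 ≤ ρ) (hU : Metric.closedBall ζ ρ ⊆ U)
    (hψ0 : ∀ z ∉ Metric.closedBall ζ ρ, ψ z = 0) (f : E → ℂ)
    (hA : ∀ z ∈ Metric.closedBall ζ ρ, ‖f (s z) * ψ z‖ ≤ A) :
    ‖intT p (fun e => f e * push p U s ψ e)‖ ≤ A * (Real.pi * ρ ^ 2) := by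
  have h0 : ∀ z ∉ Metric.closedBall ζ ρ, Tr p (fun e => f e * push p U s ψ e) z = 0 := by
    intro z hz
    refine Tr_eq_zero fun e he => ?_
    rw [push_eq_zero (by rw [he]; exact hψ0 z hz), mul_zero]
  rw [intT, ← setIntegral_eq_integral_of_forall_compl_eq_zero h0]
  have hv : volume.real (Metric.closedBall ζ ρ) = Real.pi * ρ ^ 2 := by
    rw [Measure.real, Complex.volume_closedBall]
    simp only [ENNReal.toReal_mul, ENNReal.toReal_pow, ENNReal.toReal_ofReal hρ,
      ENNReal.coe_toReal, NNReal.coe_real_pi]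
    ring
  rw [← hv]
  refine norm_setIntegral_le_of_norm_le_const measure_closedBall_lt_top fun z hz => ?_
  rw [Tr_mul_push h hs ψ f (hU hz)]
  exact hA z hz

theorem intT_eq_setIntegral {U : Set ℂ} {s : ℂ → E} (h : FinCov p B) (hs : IsSec p U s)
    {ψ : ℂ → ℂ} {ζ : ℂ} {ρ : ℝ} (hU : Metric.closedBall ζ ρ ⊆ U)
    (hψ0 : ∀ z ∉ Metric.closedBall ζ ρ, ψ z = 0) (f : E → ℂ) :
    intT p (fun e => f e * push p U s ψ e) = ∫ z in Metric.closedBall ζ ρ, f (s z) * ψ z := by
  have h0 : ∀ z ∉ Metric.closedBall ζ ρ, Tr p (fun e => f e * push p U s ψ e) z = 0 := by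
    intro z hz
    refine Tr_eq_zero fun e he => ?_
    rw [push_eq_zero (by rw [he]; exact hψ0 z hz), mul_zero]
  rw [intT, ← setIntegral_eq_integral_of_forall_compl_eq_zero h0]
  refine setIntegral_congr_fun measurableSet_closedBall fun z hz => ?_
  exact Tr_mul_push h hs ψ f (hU hz)

theorem Phi_nonneg (r t : ℝ) : 0 ≤ Phi r t := Real.smoothTransition.nonneg _

theorem Phi_le_one (r t : ℝ) : Phi r t ≤ 1 := Real.smoothTransition.le_one _

/-- The cut-off function. -/
noncomputable def chi (R : ℝ) (b z : ℂ) : ℂ := -1 * (rad (Phi R) (z - b) - 1)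

theorem norm_chi_le (R : ℝ) (b z : ℂ) : ‖chi R b z‖ ≤ 1 := by
  have h1 := Phi_nonneg R (‖z - b‖ ^ 2)
  have h2 := Phi_le_one R (‖z - b‖ ^ 2)
  have : chi R b z = ((1 - Phi R (‖z - b‖ ^ 2) : ℝ) : ℂ) := by
    rw [chi, rad]; push_cast; ring
  rw [this, norm_real, Real.norm_eq_abs, abs_le]
  constructor <;> linarith

theorem chi_eq_one {R : ℝ} (hR : 0 < R) {b z : ℂ} (hz : ‖z - b‖ ≤ R / 2) : chi R b z = 1 := by
  have : ‖z - b‖ ^ 2 ≤ R ^ 2 / 2 := by nlinarith [norm_nonneg (z - b)]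
  rw [chi, rad, Phi_zero hR this]
  simp

theorem contDiff_chi (R : ℝ) (b : ℂ) : ContDiff ℝ ∞ (chi R b) :=
  contDiff_const.mul (contDiff_prim R b)

theorem chi_zero {R : ℝ} (hR : 0 < R) (b : ℂ) : ∀ z ∉ Metric.closedBall b R, chi R b z = 0 := by
  intro z hz
  rw [chi, prim_zero hR b z hz, mul_zero]

theorem db_chi (R : ℝ) (b z : ℂ) : db (chi R b) z = - ((z - b) * beta R b z) := by
  have : chi R b = fun z => -1 * (rad (Phi R) (z - b) - 1) := rfl
  rw [this, db_mul (differentiableAt_const _)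
    (((contDiff_prim R b).differentiable (by simp)).differentiableAt), db_prim]
  simp [db]

theorem beta_inner_zero {R : ℝ} (hR : 0 < R) {b z : ℂ} (hz : ‖z - b‖ ≤ R / 2) :
    beta R b z = 0 := by
  have : ‖z - b‖ ^ 2 < R ^ 2 / 2 := by nlinarith [norm_nonneg (z - b)]
  rw [beta, rad, phi_of_lt' hR this]
  simp

/-- Multiplication by `z - b` on test functions. -/
noncomputable def mulV (p : E → ℂ) (B : Set ℂ) (b : ℂ) : VS p B →ₗ[ℂ] VS p B where
  toFun k := ⟨fun e => (p e - b) * k.1 e, mul_mem_VS (Sm_p.sub (Sm.const b)) k.2⟩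
  map_add' k k' := by
    ext e
    simp only [Submodule.coe_add, Pi.add_apply]; ring
  map_smul' c k := by
    ext e
    simp only [Submodule.coe_smul, Pi.smul_apply, smul_eq_mul, RingHom.id_apply]; ring

/-- Integration against a smooth function. -/
noncomputable def intV (h : FinCov p B) {X : E → ℂ} (hX : Sm p X) : VS p B →ₗ[ℂ] ℂ where
  toFun k := intT p (fun e => X e * k.1 e)
  map_add' k k' := by
    rw [← intT_add h (mul_mem_VS hX k.2) (mul_mem_VS hX k'.2)]
    congr 1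
    ext e
    simp only [Submodule.coe_add, Pi.add_apply]; ring
  map_smul' c k := by
    rw [RingHom.id_apply, smul_eq_mul, ← intT_const_mul h]
    congr 1
    ext e
    simp only [Submodule.coe_smul, Pi.smul_apply, smul_eq_mul]; ring

theorem dzb_p_sub (hp : IsLocalHomeomorph p) (b : ℂ) (e : E) :
    dzb p (fun e => p e - b) e = 0 := by
  have : (fun e => p e - b) = fun e => p e + (fun _ => -b) e := by ext e; ring
  rw [this, dzb_add hp Sm_p (Sm.const _), dzb_p hp, dzb_const hp, add_zero]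

theorem intT_mul_dzb (h : FinCov p B) {X k : E → ℂ} (hX : Sm p X) (hk : k ∈ VS p B) :
    intT p (fun e => X e * dzb p k e) = - intT p (fun e => dzb p X e * k e) := by
  have hp := h.locHomeo
  have h1 := intT_dzb h (mul_mem_VS hX hk)
  have h2 : dzb p (fun e => X e * k e) = fun e => dzb p X e * k e + X e * dzb p k e := by
    ext e
    exact dzb_mul hp hX hk.1 e
  rw [h2, intT_add h (mul_mem_VS (Sm.dzb hp hX) hk) (mul_mem_VS hX (dzb_mem_VS hp hk))] at h1
  exact (neg_eq_of_add_eq_zero_right h1).symm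

/-- The main existence theorem: on a finite covering `p : E → B ⊆ ℂ` there is a function,
holomorphic along sections, equal to `1` at a given point and to `0` at the other points of its
fibre, and of moderate growth. -/
theorem exists_fn (h : FinCov p B) (e₀ : E) :
    ∃ F : E → ℂ, (∀ (U : Set ℂ) (s : ℂ → E), IsSec p U s → DifferentiableOn ℂ (fun z => F (s z)) U) ∧
      F e₀ = 1 ∧ (∀ e, p e = p e₀ → e ≠ e₀ → F e = 0) ∧
      ∃ C : ℝ, 0 ≤ C ∧ ∀ (U : Set ℂ) (s : ℂ → E) (ζ : ℂ) (r : ℝ),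
        IsSec p U s → 0 < r → r ≤ 1 → Metric.closedBall ζ r ⊆ U →
        ‖F (s ζ)‖ ≤ C * (1 + ‖ζ‖) ^ 2 / r := by
  classical
  have hp := h.locHomeo
  obtain ⟨U₀, s₀, hs₀, hbU, hse⟩ := exists_sec hp e₀
  set b := p e₀ with hb
  obtain ⟨R, hR, hbR⟩ := Metric.nhds_basis_closedBall.mem_iff.1 (hs₀.isOpen.mem_nhds hbU)
  -- the cut-off function on the sheet
  have hX : push p U₀ s₀ (chi R b) ∈ VS p B :=
    push_mem_VS h hs₀ (contDiff_chi R b) (isCompact_closedBall _ _) hbR (chi_zero hR b)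
  have hg : push p U₀ s₀ (beta R b) ∈ VS p B := beta_mem h hs₀ hR hbR
  have hg' : (fun e => -1 * push p U₀ s₀ (beta R b) e) ∈ VS p B := mul_mem_VS (Sm.const _) hg
  obtain ⟨L, CL, hCL, hL1, hL2⟩ := exists_solution h hg'
  let Λ : VS p B →ₗ[ℂ] ℂ := intV h hX.1 - L.comp (mulV p B b)
  have hdX : ∀ e, dzb p (push p U₀ s₀ (chi R b)) e = -((p e - b) * push p U₀ s₀ (beta R b) e) := by
    intro e
    rw [dzb_push h hs₀ (isCompact_closedBall _ _) hbR (chi_zero hR b)]
    simp only [push]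
    split_ifs
    · rw [db_chi]
    · simp
  have hΛ0 : ∀ k, Λ (dzbV h k) = 0 := by
    intro k
    have e1 : mulV p B b (dzbV h k) = dzbV h (mulV p B b k) := by
      apply Subtype.ext
      ext e
      change (p e - b) * dzb p k.1 e = dzb p (fun e => (p e - b) * k.1 e) e
      rw [dzb_mul hp (Sm_p.sub (Sm.const b)) k.2.1, dzb_p_sub hp]
      ring
    change intT p (fun e => push p U₀ s₀ (chi R b) e * dzb p k.1 e) - L (mulV p B b (dzbV h k)) = 0
    rw [e1, hL1, intT_mul_dzb h hX.1 k.2]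
    have e2 : (fun e => dzb p (push p U₀ s₀ (chi R b)) e * k.1 e) =
        fun e => -1 * push p U₀ s₀ (beta R b) e * (mulV p B b k).1 e := by
      ext e
      rw [hdX]
      change _ = -1 * push p U₀ s₀ (beta R b) e * ((p e - b) * k.1 e)
      ring
    rw [e2]
    ring
  set C := Real.pi + CL * (2 * (1 + ‖b‖) * Real.sqrt Real.pi) with hC
  have hpi : 0 ≤ Real.pi := Real.pi_pos.le
  have hC0 : 0 ≤ C := by positivity
  have hWH : WH h Λ C := by
    refine ⟨hC0, hΛ0, ?_⟩
    intro U s ψ ζ ρ M hs hψ hU hρ hρ1 hψ0 hM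
    have hm : push p U s ψ ∈ VS p B := push_mem_VS h hs hψ (isCompact_closedBall _ _) hU hψ0
    have hM0 : 0 ≤ M := (norm_nonneg _).trans (hM 0)
    rw [app_mem Λ hm]
    have e1 : Λ ⟨push p U s ψ, hm⟩ =
        intT p (fun e => push p U₀ s₀ (chi R b) e * push p U s ψ e) -
          L (mulV p B b ⟨push p U s ψ, hm⟩) := rfl
    have b1 : ‖intT p (fun e => push p U₀ s₀ (chi R b) e * push p U s ψ e)‖ ≤
        M * (Real.pi * ρ ^ 2) := by
      refine norm_intT_le h hs hρ hU hψ0 _ fun z _ => ?_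
      rw [norm_mul]
      have : ‖push p U₀ s₀ (chi R b) (s z)‖ ≤ 1 := by
        rw [push]
        split_ifs
        · exact norm_chi_le _ _ _
        · simp
      calc _ ≤ 1 * M := mul_le_mul this (hM z) (norm_nonneg _) zero_le_one
        _ = M := one_mul M
    have b2 : ‖L (mulV p B b ⟨push p U s ψ, hm⟩)‖ ≤
        CL * (((2 + ‖ζ‖) * (1 + ‖ζ‖ + ‖b‖) * M) * (Real.sqrt Real.pi * ρ)) := by
      refine (hL2 _).trans (mul_le_mul_of_nonneg_left ?_ hCL)
      have e2 : (fun e => W (p e) * (conj ((mulV p B b ⟨push p U s ψ, hm⟩).1 e) *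
          (mulV p B b ⟨push p U s ψ, hm⟩).1 e)) =
          fun e => (W (p e) * (conj ((p e - b) * push p U s ψ e) * (p e - b))) *
            push p U s ψ e := by
        ext e
        change W (p e) * (conj ((p e - b) * push p U s ψ e) * ((p e - b) * push p U s ψ e)) = _
        ring
      rw [e2]
      have b3 := norm_intT_le (A := ((2 + ‖ζ‖) * (1 + ‖ζ‖ + ‖b‖) * M) ^ 2) h hs hρ hU hψ0
        (fun e => (W (p e) * (conj ((p e - b) * push p U s ψ e) * (p e - b)))) (by
          intro z hz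
          rw [hs.proj z (hU hz), push_sec hs ψ (hU hz)]
          have hzζ : ‖z‖ ≤ ‖ζ‖ + 1 := by
            rw [Metric.mem_closedBall, dist_eq_norm] at hz
            calc ‖z‖ = ‖ζ + (z - ζ)‖ := by congr 1; ring
              _ ≤ ‖ζ‖ + ‖z - ζ‖ := norm_add_le _ _
              _ ≤ ‖ζ‖ + 1 := by linarith
          have hW1 : ‖W z‖ ≤ (2 + ‖ζ‖) ^ 2 := by
            rw [← wt_eq, norm_real, Real.norm_eq_abs, abs_of_nonneg (wt_pos z).le, wt]
            nlinarith [norm_nonneg z, norm_nonneg ζ]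
          have hzb : ‖z - b‖ ≤ 1 + ‖ζ‖ + ‖b‖ := (norm_sub_le z b).trans (by linarith)
          have hψz := hM z
          rw [norm_mul, norm_mul, norm_mul, norm_conj, norm_mul]
          calc ‖W z‖ * (‖z - b‖ * ‖ψ z‖ * ‖z - b‖) * ‖ψ z‖
              ≤ (2 + ‖ζ‖) ^ 2 * ((1 + ‖ζ‖ + ‖b‖) * M * (1 + ‖ζ‖ + ‖b‖)) * M := by
                gcongr
            _ = ((2 + ‖ζ‖) * (1 + ‖ζ‖ + ‖b‖) * M) ^ 2 := by ring)
      refine (Real.sqrt_le_sqrt ((le_abs_self _).trans ((abs_re_le_norm _).trans b3))).trans ?_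
      have hA0 : 0 ≤ (2 + ‖ζ‖) * (1 + ‖ζ‖ + ‖b‖) * M := by positivity
      rw [Real.sqrt_mul (by positivity), Real.sqrt_sq hA0, Real.sqrt_mul hpi, Real.sqrt_sq hρ]
    rw [e1]
    refine (norm_sub_le _ _).trans ((add_le_add b1 b2).trans ?_)
    have h1 : M * (Real.pi * ρ ^ 2) ≤ Real.pi * (1 + ‖ζ‖) ^ 2 * ρ * M := by
      have a1 : ρ ^ 2 ≤ ρ := by nlinarith
      have a2 : 1 ≤ (1 + ‖ζ‖) ^ 2 := by nlinarith [norm_nonneg ζ]
      calc M * (Real.pi * ρ ^ 2) ≤ M * (Real.pi * ρ) := by gcongr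
        _ = Real.pi * 1 * ρ * M := by ring
        _ ≤ Real.pi * (1 + ‖ζ‖) ^ 2 * ρ * M := by gcongr
    have h2 : CL * (((2 + ‖ζ‖) * (1 + ‖ζ‖ + ‖b‖) * M) * (Real.sqrt Real.pi * ρ)) ≤
        CL * (2 * (1 + ‖b‖) * Real.sqrt Real.pi) * (1 + ‖ζ‖) ^ 2 * ρ * M := by
      have a1 : (2 + ‖ζ‖) ≤ 2 * (1 + ‖ζ‖) := by linarith [norm_nonneg ζ]
      have a2 : (1 + ‖ζ‖ + ‖b‖) ≤ (1 + ‖b‖) * (1 + ‖ζ‖) := by
        nlinarith [norm_nonneg ζ, norm_nonneg b, mul_nonneg (norm_nonneg ζ) (norm_nonneg b)]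
      calc CL * (((2 + ‖ζ‖) * (1 + ‖ζ‖ + ‖b‖) * M) * (Real.sqrt Real.pi * ρ))
          ≤ CL * (((2 * (1 + ‖ζ‖)) * ((1 + ‖b‖) * (1 + ‖ζ‖)) * M) * (Real.sqrt Real.pi * ρ)) := by
            gcongr
        _ = _ := by ring
    calc _ ≤ _ := add_le_add h1 h2
      _ = C * (1 + ‖ζ‖) ^ 2 * ρ * M := by rw [hC]; ring
  -- evaluation at the points of the fibre
  have hval : ∀ e, p e = b → ∃ r : ℝ, 0 < r ∧
      fn h Λ e = (if e = e₀ then ∫ z, beta r b z else 0) := by
    intro e he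
    obtain ⟨U, s, hs, heU, hse'⟩ := exists_sec hp e
    rw [he] at heU hse'
    obtain ⟨r', hr', hb'⟩ := Metric.nhds_basis_closedBall.mem_iff.1 (hs.isOpen.mem_nhds heU)
    obtain ⟨r, hr, hrR, hrr'⟩ : ∃ r : ℝ, 0 < r ∧ r ≤ R / 2 ∧ r ≤ r' :=
      ⟨min (R / 2) r', by positivity, min_le_left _ _, min_le_right _ _⟩
    have hU : Metric.closedBall b r ⊆ U := (Metric.closedBall_subset_closedBall hrr').trans hb'
    have hU₀ : Metric.closedBall b r ⊆ U₀ :=
      (Metric.closedBall_subset_closedBall (by linarith)).trans hbR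
    have hm := beta_mem h hs hr hU
    refine ⟨r, hr, ?_⟩
    have e0 : fn h Λ e = Λ ⟨_, hm⟩ := by
      rw [← app_mem Λ hm, ← fn_sec hWH hs hr hU, hse']
    have e1 : Λ ⟨_, hm⟩ =
        intT p (fun e => push p U₀ s₀ (chi R b) e * push p U s (beta r b) e) -
          L (mulV p B b ⟨_, hm⟩) := rfl
    have hK := isCompact_closedBall b r
    have mprim : push p U s (fun z => rad (Phi r) (z - b) - 1) ∈ VS p B :=
      push_mem_VS h hs (contDiff_prim r b) hK hU (prim_zero hr b)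
    have e2 : L (mulV p B b ⟨_, hm⟩) = 0 := by
      have e3 : mulV p B b ⟨_, hm⟩ = dzbV h ⟨_, mprim⟩ := by
        apply Subtype.ext
        ext e
        change (p e - b) * push p U s (beta r b) e = dzb p _ e
        rw [dzb_push h hs hK hU (prim_zero hr b), ← push_base_mul U s (fun z => z - b)]
        congr 1
        ext z
        exact (db_prim b z).symm
      rw [e3, hL1, intT_eq_setIntegral h hs hU (prim_zero hr b), neg_eq_zero]
      apply setIntegral_eq_zero_of_forall_eq_zero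
      intro z hz
      have hz' : ‖z - b‖ ≤ R / 2 := by
        rw [Metric.mem_closedBall, dist_eq_norm] at hz; linarith
      have : push p U₀ s₀ (beta R b) (s z) = 0 := by
        apply push_eq_zero
        rw [hs.proj z (hU hz)]
        exact beta_inner_zero hR hz'
      rw [this]; ring
    rw [e0, e1, e2, sub_zero, intT_eq_setIntegral h hs hU (beta_zero hr b)]
    split_ifs with hee
    · have hss : s b = s₀ b := by rw [hse', hee, hse]
      have hE : EqOn s s₀ (Metric.closedBall b r) := by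
        refine h.separated.eqOn_of_comp_eqOn hp.isLocallyInjective
          (convex_closedBall b r).isPreconnected (hs.cont.mono hU) (hs₀.cont.mono hU₀) ?_
          (Metric.mem_closedBall_self hr.le) hss
        intro z hz
        simp only [Function.comp]
        rw [hs.proj z (hU hz), hs₀.proj z (hU₀ hz)]
      rw [← setIntegral_eq_integral_of_forall_compl_eq_zero (beta_zero hr b)]
      refine setIntegral_congr_fun measurableSet_closedBall fun z hz => ?_
      have hz' : ‖z - b‖ ≤ R / 2 := by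
        rw [Metric.mem_closedBall, dist_eq_norm] at hz; linarith
      rw [hE hz, push_sec hs₀ _ (hU₀ hz), chi_eq_one hR hz', one_mul]
    · apply setIntegral_eq_zero_of_forall_eq_zero
      intro z hz
      have : push p U₀ s₀ (chi R b) (s z) = 0 := by
        apply push_of_not
        rintro ⟨-, h2⟩
        rw [hs.proj z (hU hz)] at h2
        have hE : EqOn s₀ s (Metric.closedBall b r) := by
          refine h.separated.eqOn_of_comp_eqOn hp.isLocallyInjective
            (convex_closedBall b r).isPreconnected (hs₀.cont.mono hU₀) (hs.cont.mono hU) ?_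
            hz h2
          intro z hz
          simp only [Function.comp]
          rw [hs.proj z (hU hz), hs₀.proj z (hU₀ hz)]
        have := hE (Metric.mem_closedBall_self hr.le)
        rw [hse, hse'] at this
        exact hee this.symm
      rw [this, zero_mul]
  obtain ⟨r₀, hr₀, hv₀⟩ := hval e₀ rfl
  rw [if_pos rfl] at hv₀
  have hne : fn h Λ e₀ ≠ 0 := by rw [hv₀]; exact integral_beta_ne_zero hr₀ b
  obtain ⟨C', hC'0, hC'⟩ := fn_growth hWH
  refine ⟨fun e => (fn h Λ e₀)⁻¹ * fn h Λ e, fun U s hs => ?_, inv_mul_cancel₀ hne, ?_,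
    ‖(fn h Λ e₀)⁻¹‖ * C', by positivity, ?_⟩
  · exact (differentiableOn_const _).mul (fn_differentiableOn hWH hs)
  · intro e he hee
    obtain ⟨r, -, hv⟩ := hval e he
    rw [if_neg hee] at hv
    change (fn h Λ e₀)⁻¹ * fn h Λ e = 0
    rw [hv, mul_zero]
  · intro U s ζ r hs hr hr1 hU
    rw [norm_mul]
    calc ‖(fn h Λ e₀)⁻¹‖ * ‖fn h Λ (s ζ)‖ ≤ ‖(fn h Λ e₀)⁻¹‖ * (C' * (1 + ‖ζ‖) ^ 2 / r) :=
          mul_le_mul_of_nonneg_left (hC' U s ζ r hs hr hr1 hU) (norm_nonneg _)
      _ = _ := by ring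

end Groth.Agent.An.H410.Exist
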