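import Groth.Agent.An.H410.Estimate

/-!
# Functions supported on one sheet
-/

set_option autoImplicit false

open Topology Filter Set MeasureTheory Complex
open scoped ContDiff ComplexConjugate

universe u

namespace Groth.Agent.An.H410.Push

open Groth.Agent.An.H410.Cover Groth.Agent.An.H410.Smooth Groth.Agent.An.H410.Trace
  Groth.Agent.An.H410.Dbar Groth.Agent.An.H410.Estimate

variable {E : Type u} [TopologicalSpace E] {p : E → ℂ} {B : Set ℂ}

/-- The function `ψ` on the sheet given by the section `s` over `U`, extended by zero. -/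
noncomputable def push (p : E → ℂ) (U : Set ℂ) (s : ℂ → E) (ψ : ℂ → ℂ) (e : E) : ℂ :=
  open Classical in if p e ∈ U ∧ s (p e) = e then ψ (p e) else 0

theorem push_sec {U : Set ℂ} {s : ℂ → E} (hs : IsSec p U s) (ψ : ℂ → ℂ) {z : ℂ} (hz : z ∈ U) :
    push p U s ψ (s z) = ψ z := by
  rw [push, if_pos (by rw [hs.proj z hz]; exact ⟨hz, rfl⟩), hs.proj z hz]

omit [TopologicalSpace E] in
theorem push_of_not {U : Set ℂ} {s : ℂ → E} {ψ : ℂ → ℂ} {e : E} (h : ¬ (p e ∈ U ∧ s (p e) = e)) :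
    push p U s ψ e = 0 := by rw [push, if_neg h]

omit [TopologicalSpace E] in
theorem push_eq_zero {U : Set ℂ} {s : ℂ → E} {ψ : ℂ → ℂ} {e : E} (h : ψ (p e) = 0) :
    push p U s ψ e = 0 := by
  rw [push]; split_ifs
  · exact h
  · rfl

omit [TopologicalSpace E] in
theorem push_add (U : Set ℂ) (s : ℂ → E) (ψ ψ' : ℂ → ℂ) (e : E) :
    push p U s (fun z => ψ z + ψ' z) e = push p U s ψ e + push p U s ψ' e := by
  simp only [push]; split_ifs <;> simp

omit [TopologicalSpace E] in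
theorem push_const_mul (U : Set ℂ) (s : ℂ → E) (c : ℂ) (ψ : ℂ → ℂ) (e : E) :
    push p U s (fun z => c * ψ z) e = c * push p U s ψ e := by
  simp only [push]; split_ifs <;> simp

omit [TopologicalSpace E] in
theorem push_base_mul (U : Set ℂ) (s : ℂ → E) (g : ℂ → ℂ) (ψ : ℂ → ℂ) (e : E) :
    push p U s (fun z => g z * ψ z) e = g (p e) * push p U s ψ e := by
  simp only [push]; split_ifs <;> simp

/-- Local description of a pushed function along another section. -/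
theorem push_local (h : FinCov p B) {U : Set ℂ} {s : ℂ → E} (hs : IsSec p U s) {ψ : ℂ → ℂ}
    {K : Set ℂ} (hK : IsCompact K) (hKU : K ⊆ U) (hψ0 : ∀ z ∉ K, ψ z = 0)
    {V : Set ℂ} {t : ℂ → E} (ht : IsSec p V t) {z : ℂ} (hz : z ∈ V) :
    ((z ∈ U ∧ s z = t z) ∧ (fun w => push p U s ψ (t w)) =ᶠ[𝓝 z] ψ) ∨
    ((¬ (z ∈ U ∧ s z = t z)) ∧ (fun w => push p U s ψ (t w)) =ᶠ[𝓝 z] fun _ => 0) := by
  by_cases hzU : z ∈ U
  · by_cases hst : s z = t z
    · left
      refine ⟨⟨hzU, hst⟩, ?_⟩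
      filter_upwards [hs.eventuallyEq h.locHomeo ht hzU hz hst, hs.isOpen.mem_nhds hzU] with w h1 h2
      rw [← h1, push_sec hs ψ h2]
    · right
      refine ⟨fun hc => hst hc.2, ?_⟩
      filter_upwards [hs.eventuallyNe h.separated ht hzU hz hst, ht.isOpen.mem_nhds hz] with w h1 h2
      apply push_of_not
      rintro ⟨-, h4⟩
      rw [ht.proj w h2] at h4
      exact h1 h4
  · right
    refine ⟨fun hc => hzU hc.1, ?_⟩
    have hzK : z ∉ K := fun hc => hzU (hKU hc)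
    filter_upwards [hK.isClosed.isOpen_compl.mem_nhds hzK, ht.isOpen.mem_nhds hz] with w h1 h2
    apply push_eq_zero
    rw [ht.proj w h2]
    exact hψ0 w h1

theorem subset_B (h : FinCov p B) {U : Set ℂ} {s : ℂ → E} (hs : IsSec p U s) : U ⊆ B := by
  intro z hz
  rw [← hs.proj z hz]
  exact h.mem _

theorem push_mem_VS (h : FinCov p B) {U : Set ℂ} {s : ℂ → E} (hs : IsSec p U s) {ψ : ℂ → ℂ}
    (hψ : ContDiff ℝ ∞ ψ) {K : Set ℂ} (hK : IsCompact K) (hKU : K ⊆ U) (hψ0 : ∀ z ∉ K, ψ z = 0) :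
    push p U s ψ ∈ VS p B := by
  constructor
  · intro V t ht z hz
    apply ContDiffAt.contDiffWithinAt
    rcases push_local h hs hK hKU hψ0 ht hz with ⟨-, h1⟩ | ⟨-, h1⟩
    · exact hψ.contDiffAt.congr_of_eventuallyEq h1
    · exact contDiffAt_const.congr_of_eventuallyEq h1
  · exact ⟨K, hK, hKU.trans (subset_B h hs), fun e he => push_eq_zero (hψ0 _ he)⟩

theorem D_push (h : FinCov p B) {U : Set ℂ} {s : ℂ → E} (hs : IsSec p U s) {ψ : ℂ → ℂ}
    {K : Set ℂ} (hK : IsCompact K) (hKU : K ⊆ U) (hψ0 : ∀ z ∉ K, ψ z = 0) (v : ℂ) (e : E) :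
    D p (push p U s ψ) v e = push p U s (fun z => fderiv ℝ ψ z v) e := by
  obtain ⟨V, t, ht, he, hte⟩ := exists_sec h.locHomeo e
  rw [D_eq h.locHomeo ht he hte]
  rcases push_local h hs hK hKU hψ0 ht he with ⟨h0, h1⟩ | ⟨h0, h1⟩
  · rw [h1.fderiv_eq, push, if_pos]
    exact ⟨h0.1, h0.2.trans hte⟩
  · rw [h1.fderiv_eq, push_of_not]
    · simp
    · rintro ⟨h2, h3⟩
      exact h0 ⟨h2, h3.trans hte.symm⟩

/-- `∂/∂z̄` in the plane. -/
noncomputable def db (ψ : ℂ → ℂ) (z : ℂ) : ℂ := (fderiv ℝ ψ z 1 + I * fderiv ℝ ψ z I) / 2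

/-- `∂/∂z` in the plane. -/
noncomputable def dd (ψ : ℂ → ℂ) (z : ℂ) : ℂ := (fderiv ℝ ψ z 1 - I * fderiv ℝ ψ z I) / 2

theorem dzb_push (h : FinCov p B) {U : Set ℂ} {s : ℂ → E} (hs : IsSec p U s) {ψ : ℂ → ℂ}
    {K : Set ℂ} (hK : IsCompact K) (hKU : K ⊆ U) (hψ0 : ∀ z ∉ K, ψ z = 0) (e : E) :
    dzb p (push p U s ψ) e = push p U s (db ψ) e := by
  rw [dzb, D_push h hs hK hKU hψ0, D_push h hs hK hKU hψ0]
  simp only [push, db]
  split_ifs <;> simp

theorem contDiff_fderiv_apply {ψ : ℂ → ℂ} (hψ : ContDiff ℝ ∞ ψ) (v : ℂ) :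
    ContDiff ℝ ∞ (fun z => fderiv ℝ ψ z v) :=
  (hψ.fderiv_right (m := ∞) (by simp)).clm_apply contDiff_const

theorem contDiff_db {ψ : ℂ → ℂ} (hψ : ContDiff ℝ ∞ ψ) : ContDiff ℝ ∞ (db ψ) :=
  ((contDiff_fderiv_apply hψ 1).add (contDiff_const.mul (contDiff_fderiv_apply hψ I))).div_const 2

theorem contDiff_dd {ψ : ℂ → ℂ} (hψ : ContDiff ℝ ∞ ψ) : ContDiff ℝ ∞ (dd ψ) :=
  ((contDiff_fderiv_apply hψ 1).sub (contDiff_const.mul (contDiff_fderiv_apply hψ I))).div_const 2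

theorem fderiv_zero_of_compact {ψ : ℂ → ℂ} {K : Set ℂ} (hK : IsCompact K)
    (hψ0 : ∀ z ∉ K, ψ z = 0) {z : ℂ} (hz : z ∉ K) : fderiv ℝ ψ z = 0 := by
  have : ψ =ᶠ[𝓝 z] fun _ => 0 := by
    filter_upwards [hK.isClosed.isOpen_compl.mem_nhds hz] with w hw
    exact hψ0 w hw
  rw [this.fderiv_eq]
  simp

theorem db_zero {ψ : ℂ → ℂ} {K : Set ℂ} (hK : IsCompact K)
    (hψ0 : ∀ z ∉ K, ψ z = 0) : ∀ z ∉ K, db ψ z = 0 := by
  intro z hz
  simp [db, fderiv_zero_of_compact hK hψ0 hz]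

theorem dd_zero {ψ : ℂ → ℂ} {K : Set ℂ} (hK : IsCompact K)
    (hψ0 : ∀ z ∉ K, ψ z = 0) : ∀ z ∉ K, dd ψ z = 0 := by
  intro z hz
  simp [dd, fderiv_zero_of_compact hK hψ0 hz]

/-- Every direction derivative in terms of the Wirtinger derivatives. -/
theorem fderiv_eq_dd_db (ψ : ℂ → ℂ) (z v : ℂ) :
    fderiv ℝ ψ z v = v * dd ψ z + conj v * db ψ z := by
  have hv : v = (v.re : ℝ) • (1 : ℂ) + (v.im : ℝ) • I := by
    apply Complex.ext <;> simp
  have h1 : fderiv ℝ ψ z v = (v.re : ℂ) * fderiv ℝ ψ z 1 + (v.im : ℂ) * fderiv ℝ ψ z I := by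
    conv_lhs => rw [hv]
    rw [map_add, map_smul, map_smul, real_smul, real_smul]
  have h2 : v = (v.re : ℂ) + (v.im : ℂ) * I := (re_add_im v).symm
  have h3 : conj v = (v.re : ℂ) - (v.im : ℂ) * I := by
    apply Complex.ext <;> simp
  rw [h1, h3]
  conv_rhs => rw [h2]
  simp only [dd, db]
  simp only [add_re, ofReal_re, mul_re, I_re, mul_zero, ofReal_im, I_im, mul_one, sub_self,
    add_zero, add_im, mul_im, zero_add]
  linear_combination ((v.im : ℂ) * fderiv ℝ ψ z I) * I_mul_I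

/-- Trace of a product with a function supported on one sheet. -/
theorem Tr_mul_push (h : FinCov p B) {U : Set ℂ} {s : ℂ → E} (hs : IsSec p U s) (ψ : ℂ → ℂ)
    (f : E → ℂ) {z : ℂ} (hz : z ∈ U) : Tr p (fun e => f e * push p U s ψ e) z = f (s z) * ψ z := by
  rw [Tr, finsum_eq_single _ (⟨s z, hs.proj z hz⟩ : p ⁻¹' {z})]
  · rw [push_sec hs ψ hz]
  · rintro ⟨e, he⟩ hne
    have he' : p e = z := he
    rw [push_of_not, mul_zero]
    rintro ⟨-, h2⟩
    apply hne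
    apply Subtype.ext
    have h3 : s (p e) = e := h2
    change e = s z
    rw [← h3, he']

omit [TopologicalSpace E] in
theorem Tr_mul_push_of_notMem {U : Set ℂ} {s : ℂ → E} (ψ : ℂ → ℂ)
    (f : E → ℂ) {z : ℂ} (hz : z ∉ U) : Tr p (fun e => f e * push p U s ψ e) z = 0 := by
  refine Tr_eq_zero fun e he => ?_
  rw [push_of_not, mul_zero]
  rintro ⟨h1, -⟩
  exact hz (he ▸ h1)

end Groth.Agent.An.H410.Push
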