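import Groth.Agent.An.H410.Cover
import Mathlib.Analysis.Calculus.FDeriv.Symmetric
import Mathlib.Analysis.Calculus.ContDiff.Operations
import Mathlib.Analysis.Calculus.LineDeriv.IntegrationByParts
import Mathlib.MeasureTheory.Measure.Lebesgue.Complex
import Mathlib.Analysis.Complex.Conformal
import Mathlib.Analysis.Calculus.ContDiff.RCLike

/-!
# Smooth functions on a covering of a plane domain and their derivatives
-/

set_option autoImplicit false

open Topology Filter Set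
open scoped ContDiff ComplexConjugate

universe u

namespace Groth.Agent.An.H410.Smooth

open Groth.Agent.An.H410.Cover

variable {E : Type u} [TopologicalSpace E] {p : E → ℂ} {B : Set ℂ}

theorem two_le_infty' : (2 : WithTop ℕ∞) ≤ ∞ := by
  exact WithTop.coe_le_coe.2 (le_top : (2 : ℕ∞) ≤ ⊤)

theorem two_le_infty : (1 + 1 : WithTop ℕ∞) ≤ ∞ := by
  rw [one_add_one_eq_two]; exact two_le_infty'

/-- A function on the covering is smooth if it is so along each local section. -/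
def Sm (p : E → ℂ) (f : E → ℂ) : Prop :=
  ∀ (U : Set ℂ) (s : ℂ → E), IsSec p U s → ContDiffOn ℝ ∞ (fun z => f (s z)) U

/-- Directional derivative of a function on the covering. -/
noncomputable def D (p : E → ℂ) (f : E → ℂ) (v : ℂ) (e : E) : ℂ :=
  open Classical in
  if h : ∃ (U : Set ℂ) (s : ℂ → E), IsSec p U s ∧ p e ∈ U ∧ s (p e) = e then
    fderiv ℝ (fun z => f (h.choose_spec.choose z)) (p e) v else 0

theorem exists_sec (hp : IsLocalHomeomorph p) (e : E) :
    ∃ (U : Set ℂ) (s : ℂ → E), IsSec p U s ∧ p e ∈ U ∧ s (p e) = e := by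
  obtain ⟨φ, hφ, hpφ⟩ := hp e
  refine ⟨φ.target, φ.symm, ⟨φ.open_target, φ.continuousOn_symm, ?_⟩, ?_, ?_⟩
  · intro z hz
    rw [hpφ]; exact φ.right_inv hz
  · rw [hpφ]; exact φ.map_source hφ
  · rw [hpφ]; exact φ.left_inv hφ

theorem D_eq (hp : IsLocalHomeomorph p) {U : Set ℂ} {s : ℂ → E} (hs : IsSec p U s) {e : E}
    (he : p e ∈ U) (hse : s (p e) = e) (f : E → ℂ) (v : ℂ) :
    D p f v e = fderiv ℝ (fun z => f (s z)) (p e) v := by
  have h : ∃ (U : Set ℂ) (s : ℂ → E), IsSec p U s ∧ p e ∈ U ∧ s (p e) = e := ⟨U, s, hs, he, hse⟩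
  rw [D, dif_pos h]
  obtain ⟨h1, h2, h3⟩ := h.choose_spec.choose_spec
  have := h1.eventuallyEq hp hs h2 he (h3.trans hse.symm)
  have h4 : (fun z => f (h.choose_spec.choose z)) =ᶠ[𝓝 (p e)] fun z => f (s z) :=
    this.fun_comp f
  rw [h4.fderiv_eq]

theorem D_sec (hp : IsLocalHomeomorph p) {U : Set ℂ} {s : ℂ → E} (hs : IsSec p U s) {z : ℂ}
    (hz : z ∈ U) (f : E → ℂ) (v : ℂ) :
    D p f v (s z) = fderiv ℝ (fun z => f (s z)) z v := by
  have h := hs.proj z hz
  rw [D_eq hp hs (by rw [h]; exact hz) (by rw [h]) f v, h]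

theorem Sm.contDiffAt {f : E → ℂ} (hf : Sm p f) {U : Set ℂ} {s : ℂ → E} (hs : IsSec p U s) {z : ℂ}
    (hz : z ∈ U) : ContDiffAt ℝ ∞ (fun z => f (s z)) z :=
  (hf U s hs).contDiffAt (hs.isOpen.mem_nhds hz)

theorem Sm.differentiableAt {f : E → ℂ} (hf : Sm p f) {U : Set ℂ} {s : ℂ → E} (hs : IsSec p U s)
    {z : ℂ} (hz : z ∈ U) : DifferentiableAt ℝ (fun z => f (s z)) z :=
  (hf.contDiffAt hs hz).differentiableAt (by simp)

theorem Sm.add {f g : E → ℂ} (hf : Sm p f) (hg : Sm p g) : Sm p (fun e => f e + g e) :=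
  fun U s hs => (hf U s hs).add (hg U s hs)

theorem Sm.sub {f g : E → ℂ} (hf : Sm p f) (hg : Sm p g) : Sm p (fun e => f e - g e) :=
  fun U s hs => (hf U s hs).sub (hg U s hs)

theorem Sm.mul {f g : E → ℂ} (hf : Sm p f) (hg : Sm p g) : Sm p (fun e => f e * g e) :=
  fun U s hs => (hf U s hs).mul (hg U s hs)

theorem Sm.const (c : ℂ) : Sm p (fun _ => c) := fun _ _ _ => contDiffOn_const

theorem Sm.const_mul {f : E → ℂ} (hf : Sm p f) (c : ℂ) : Sm p (fun e => c * f e) :=
  (Sm.const c).mul hf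

theorem Sm.neg {f : E → ℂ} (hf : Sm p f) : Sm p (fun e => - f e) :=
  fun U s hs => (hf U s hs).neg

theorem Sm.star {f : E → ℂ} (hf : Sm p f) : Sm p (fun e => conj (f e)) :=
  fun U s hs => Complex.conjCLE.contDiff.comp_contDiffOn (hf U s hs)

theorem Sm.base {g : ℂ → ℂ} (hg : ContDiff ℝ ∞ g) : Sm p (fun e => g (p e)) := by
  intro U s hs
  refine (hg.contDiffOn (s := U)).congr ?_
  intro z hz
  simp only [hs.proj z hz]

theorem Sm.D (hp : IsLocalHomeomorph p) {f : E → ℂ} (hf : Sm p f) (v : ℂ) : Sm p (D p f v) := by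
  intro U s hs
  have h1 : ContDiffOn ℝ ∞ (fun z => fderiv ℝ (fun z => f (s z)) z v) U :=
    (((hf U s hs).fderiv_of_isOpen hs.isOpen (by simp)).clm_apply contDiffOn_const)
  refine h1.congr ?_
  intro z hz
  exact D_sec hp hs hz f v

theorem D_add (hp : IsLocalHomeomorph p) {f g : E → ℂ} (hf : Sm p f) (hg : Sm p g) (v : ℂ) (e : E) :
    D p (fun e => f e + g e) v e = D p f v e + D p g v e := by
  obtain ⟨U, s, hs, he, hse⟩ := exists_sec hp e
  rw [D_eq hp hs he hse, D_eq hp hs he hse, D_eq hp hs he hse,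
    fderiv_fun_add (hf.differentiableAt hs he) (hg.differentiableAt hs he)]
  rfl

theorem D_sub (hp : IsLocalHomeomorph p) {f g : E → ℂ} (hf : Sm p f) (hg : Sm p g) (v : ℂ) (e : E) :
    D p (fun e => f e - g e) v e = D p f v e - D p g v e := by
  obtain ⟨U, s, hs, he, hse⟩ := exists_sec hp e
  rw [D_eq hp hs he hse, D_eq hp hs he hse, D_eq hp hs he hse,
    fderiv_fun_sub (hf.differentiableAt hs he) (hg.differentiableAt hs he)]
  rfl

theorem D_mul (hp : IsLocalHomeomorph p) {f g : E → ℂ} (hf : Sm p f) (hg : Sm p g) (v : ℂ) (e : E) :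
    D p (fun e => f e * g e) v e = D p f v e * g e + f e * D p g v e := by
  obtain ⟨U, s, hs, he, hse⟩ := exists_sec hp e
  rw [D_eq hp hs he hse, D_eq hp hs he hse, D_eq hp hs he hse,
    fderiv_fun_mul (hf.differentiableAt hs he) (hg.differentiableAt hs he)]
  simp only [add_apply, smul_apply, smul_eq_mul, hse]
  ring

theorem D_const (hp : IsLocalHomeomorph p) (c : ℂ) (v : ℂ) (e : E) : D p (fun _ => c) v e = 0 := by
  obtain ⟨U, s, hs, he, hse⟩ := exists_sec hp e
  rw [D_eq hp hs he hse]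
  simp

theorem D_const_mul (hp : IsLocalHomeomorph p) {f : E → ℂ} (hf : Sm p f) (c : ℂ) (v : ℂ) (e : E) :
    D p (fun e => c * f e) v e = c * D p f v e := by
  rw [D_mul hp (Sm.const c) hf, D_const hp]
  ring

theorem D_star (hp : IsLocalHomeomorph p) {f : E → ℂ} (hf : Sm p f) (v : ℂ) (e : E) :
    D p (fun e => conj (f e)) v e = conj (D p f v e) := by
  obtain ⟨U, s, hs, he, hse⟩ := exists_sec hp e
  rw [D_eq hp hs he hse, D_eq hp hs he hse]
  have h := ((Complex.conjCLE : ℂ →L[ℝ] ℂ).hasFDerivAt.comp (p e)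
    (hf.differentiableAt hs he).hasFDerivAt).fderiv
  have e1 : fderiv ℝ (fun z => conj (f (s z))) (p e) = _ := h
  rw [e1]
  rfl

theorem D_base (hp : IsLocalHomeomorph p) (g : ℂ → ℂ) (v : ℂ) (e : E) :
    D p (fun e => g (p e)) v e = fderiv ℝ g (p e) v := by
  obtain ⟨U, s, hs, he, hse⟩ := exists_sec hp e
  rw [D_eq hp hs he hse]
  have : (fun z => g (p (s z))) =ᶠ[𝓝 (p e)] g := by
    filter_upwards [hs.isOpen.mem_nhds he] with z hz
    rw [hs.proj z hz]
  rw [this.fderiv_eq]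

theorem D_congr (hp : IsLocalHomeomorph p) {f g : E → ℂ} {e : E} (h : f =ᶠ[𝓝 e] g) (v : ℂ) :
    D p f v e = D p g v e := by
  obtain ⟨U, s, hs, he, hse⟩ := exists_sec hp e
  rw [D_eq hp hs he hse, D_eq hp hs he hse]
  have hc : Tendsto s (𝓝 (p e)) (𝓝 e) := by
    have := hs.continuousAt he
    rwa [ContinuousAt, hse] at this
  have : (fun z => f (s z)) =ᶠ[𝓝 (p e)] fun z => g (s z) := hc.eventually h
  rw [this.fderiv_eq]

theorem D_comm (hp : IsLocalHomeomorph p) {f : E → ℂ} (hf : Sm p f) (v w : ℂ) (e : E) :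
    D p (D p f v) w e = D p (D p f w) v e := by
  obtain ⟨U, s, hs, he, hse⟩ := exists_sec hp e
  rw [D_eq hp hs he hse, D_eq hp hs he hse]
  have hD : ∀ v, (fun z => D p f v (s z)) =ᶠ[𝓝 (p e)]
      fun z => fderiv ℝ (fun z => f (s z)) z v := by
    intro v
    filter_upwards [hs.isOpen.mem_nhds he] with z hz
    exact D_sec hp hs hz f v
  rw [(hD v).fderiv_eq, (hD w).fderiv_eq]
  have hc := hf.contDiffAt hs he
  have hd : DifferentiableAt ℝ (fun z => fderiv ℝ (fun z => f (s z)) z) (p e) :=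
    (hc.fderiv_right (m := 1) two_le_infty).differentiableAt (by simp)
  have key : ∀ v w, fderiv ℝ (fun z => fderiv ℝ (fun z => f (s z)) z v) (p e) w =
      fderiv ℝ (fderiv ℝ (fun z => f (s z))) (p e) w v := by
    intro v w
    rw [fderiv_clm_apply hd (differentiableAt_const v)]
    simp
  rw [key, key]
  exact (hc.isSymmSndFDerivAt (by simpa using two_le_infty')) w v

end Groth.Agent.An.H410.Smooth
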