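import Groth.Agent.An.H410.Smooth
import Mathlib.MeasureTheory.Integral.Bochner.Set
import Mathlib.MeasureTheory.Function.LocallyIntegrable

/-!
# Trace of compactly supported smooth functions on a finite covering of a plane domain
-/

set_option autoImplicit false

open Topology Filter Set MeasureTheory
open scoped ContDiff ComplexConjugate

universe u

namespace Groth.Agent.An.H410.Trace

open Groth.Agent.An.H410.Cover Groth.Agent.An.H410.Smooth

variable {E : Type u} [TopologicalSpace E] {p : E → ℂ} {B : Set ℂ}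

/-- Compact support relative to the base. -/
def CS (p : E → ℂ) (B : Set ℂ) (f : E → ℂ) : Prop :=
  ∃ K : Set ℂ, IsCompact K ∧ K ⊆ B ∧ ∀ e, p e ∉ K → f e = 0

omit [TopologicalSpace E] in
theorem CS.mul_left {f : E → ℂ} (hf : CS p B f) (g : E → ℂ) : CS p B (fun e => g e * f e) := by
  obtain ⟨K, h1, h2, h3⟩ := hf
  exact ⟨K, h1, h2, fun e he => by simp [h3 e he]⟩

omit [TopologicalSpace E] in
theorem CS.mul_right {f : E → ℂ} (hf : CS p B f) (g : E → ℂ) : CS p B (fun e => f e * g e) := by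
  obtain ⟨K, h1, h2, h3⟩ := hf
  exact ⟨K, h1, h2, fun e he => by simp [h3 e he]⟩

omit [TopologicalSpace E] in
theorem CS.add {f g : E → ℂ} (hf : CS p B f) (hg : CS p B g) : CS p B (fun e => f e + g e) := by
  obtain ⟨K, h1, h2, h3⟩ := hf
  obtain ⟨K', h1', h2', h3'⟩ := hg
  refine ⟨K ∪ K', h1.union h1', union_subset h2 h2', fun e he => ?_⟩
  rw [mem_union, not_or] at he
  simp [h3 e he.1, h3' e he.2]

omit [TopologicalSpace E] in
theorem CS.star {f : E → ℂ} (hf : CS p B f) : CS p B (fun e => conj (f e)) := by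
  obtain ⟨K, h1, h2, h3⟩ := hf
  exact ⟨K, h1, h2, fun e he => by simp [h3 e he]⟩

theorem CS.D (hp : IsLocalHomeomorph p) {f : E → ℂ} (hf : CS p B f) (v : ℂ) : CS p B (D p f v) := by
  obtain ⟨K, h1, h2, h3⟩ := hf
  refine ⟨K, h1, h2, fun e he => ?_⟩
  have : f =ᶠ[𝓝 e] fun _ => 0 := by
    have : ∀ᶠ e' in 𝓝 e, p e' ∈ Kᶜ :=
      hp.continuous.continuousAt.eventually (h1.isClosed.isOpen_compl.mem_nhds he)
    filter_upwards [this] with e' he'
    exact h3 e' he'
  rw [D_congr hp this, D_const hp]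

theorem Tr_contDiffAt (h : FinCov p B) {f : E → ℂ} (hf : Sm p f) {z : ℂ} (hz : z ∈ B) :
    ContDiffAt ℝ ∞ (Tr p f) z := by
  obtain ⟨I, _, U, s, hzU, hU, -, hs, hsur, hinj⟩ := h.exists_sheets hz
  have h1 : ContDiffAt ℝ ∞ (fun z => ∑ i, f (s i z)) z :=
    ContDiffAt.sum fun i _ => hf.contDiffAt (hs i) hzU
  refine h1.congr_of_eventuallyEq ?_
  filter_upwards [hU.mem_nhds hzU] with w hw
  exact Tr_eq_sum hs hsur hinj f hw

theorem Tr_fderiv (h : FinCov p B) {f : E → ℂ} (hf : Sm p f) {z : ℂ} (hz : z ∈ B) (v : ℂ) :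
    fderiv ℝ (Tr p f) z v = Tr p (D p f v) z := by
  obtain ⟨I, _, U, s, hzU, hU, -, hs, hsur, hinj⟩ := h.exists_sheets hz
  have h1 : Tr p f =ᶠ[𝓝 z] fun z => ∑ i, f (s i z) := by
    filter_upwards [hU.mem_nhds hzU] with w hw
    exact Tr_eq_sum hs hsur hinj f hw
  rw [h1.fderiv_eq, fderiv_fun_sum fun i _ => hf.differentiableAt (hs i) hzU,
    Tr_eq_sum hs hsur hinj _ hzU, sum_apply]
  exact Finset.sum_congr rfl fun i _ => (D_sec h.locHomeo (hs i) hzU f v).symm

theorem CS.exists_compact {f : E → ℂ} (hf : CS p B f) :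
    ∃ K : Set ℂ, IsCompact K ∧ K ⊆ B ∧ ∀ z ∉ K, Tr p f z = 0 := by
  obtain ⟨K, h1, h2, h3⟩ := hf
  exact ⟨K, h1, h2, fun z hz => Tr_eq_zero fun e he => h3 e (by rw [he]; exact hz)⟩

theorem hasCompactSupport_Tr {f : E → ℂ} (hf : CS p B f) : HasCompactSupport (Tr p f) := by
  obtain ⟨K, h1, h2, h3⟩ := hf.exists_compact
  exact HasCompactSupport.intro h1 fun z hz => h3 z hz

theorem contDiff_Tr (h : FinCov p B) {f : E → ℂ} (hf : Sm p f) (hf' : CS p B f) :
    ContDiff ℝ ∞ (Tr p f) := by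
  obtain ⟨K, h1, h2, h3⟩ := hf'.exists_compact
  rw [contDiff_iff_contDiffAt]
  intro z
  by_cases hz : z ∈ K
  · exact Tr_contDiffAt h hf (h2 hz)
  · have : Tr p f =ᶠ[𝓝 z] fun _ => 0 := by
      filter_upwards [h1.isClosed.isOpen_compl.mem_nhds hz] with w hw
      exact h3 w hw
    exact contDiffAt_const.congr_of_eventuallyEq this

theorem integrable_Tr (h : FinCov p B) {f : E → ℂ} (hf : Sm p f) (hf' : CS p B f) :
    Integrable (Tr p f) :=
  (contDiff_Tr h hf hf').continuous.integrable_of_hasCompactSupport (hasCompactSupport_Tr hf')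

theorem integral_fderiv_eq_zero {F : ℂ → ℂ} (hF : ContDiff ℝ ∞ F) (hc : HasCompactSupport F)
    (v : ℂ) : ∫ z, fderiv ℝ F z v = 0 := by
  have hF1 : ContDiff ℝ 1 F := hF.of_le (by simp)
  have hcont : Continuous fun z => fderiv ℝ F z v :=
    (hF1.continuous_fderiv one_ne_zero).clm_apply continuous_const
  have hcs : HasCompactSupport fun z => fderiv ℝ F z v := hc.fderiv_apply ℝ v
  have := integral_mul_fderiv_eq_neg_fderiv_mul_of_integrable (μ := (volume : Measure ℂ))
    (f := fun _ : ℂ => (1 : ℂ)) (g := F) (v := v) (by simp)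
    (by simpa using hcont.integrable_of_hasCompactSupport hcs)
    (by simpa using hF1.continuous.integrable_of_hasCompactSupport hc)
    (fun _ _ => differentiableAt_const _) (fun z _ => (hF1.differentiable one_ne_zero).differentiableAt)
  simpa using this

theorem integral_Tr_D (h : FinCov p B) {f : E → ℂ} (hf : Sm p f) (hf' : CS p B f) (v : ℂ) :
    ∫ z, Tr p (D p f v) z = 0 := by
  rw [← integral_fderiv_eq_zero (contDiff_Tr h hf hf') (hasCompactSupport_Tr hf') v]
  congr 1
  ext z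
  by_cases hz : z ∈ B
  · exact (Tr_fderiv h hf hz v).symm
  · obtain ⟨K, h1, h2, h3⟩ := hf'.exists_compact
    have hzK : z ∉ K := fun hzK => hz (h2 hzK)
    have : Tr p f =ᶠ[𝓝 z] fun _ => 0 := by
      filter_upwards [h1.isClosed.isOpen_compl.mem_nhds hzK] with w hw
      exact h3 w hw
    rw [this.fderiv_eq]
    simp only [fderiv_fun_const, Pi.zero_apply, zero_apply]
    exact Tr_eq_zero fun e he => absurd (he ▸ h.mem e) hz

end Groth.Agent.An.H410.Trace
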