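import Groth.Agent.An.H410.Bump
import Mathlib.Analysis.Calculus.ContDiff.RCLike

/-!
# Weyl's lemma: bounded functionals killing `∂̄` are holomorphic functions
-/

set_option autoImplicit false

open Topology Filter Set MeasureTheory Complex
open scoped ContDiff ComplexConjugate

universe u

namespace Groth.Agent.An.H410.Weyl

open Groth.Agent.An.H410.Cover Groth.Agent.An.H410.Smooth Groth.Agent.An.H410.Trace
  Groth.Agent.An.H410.Dbar Groth.Agent.An.H410.Estimate Groth.Agent.An.H410.Push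
  Groth.Agent.An.H410.Bump

variable {E : Type u} [TopologicalSpace E] {p : E → ℂ} {B : Set ℂ}

/-- Value of a functional on a function, `0` if the function is not a test function. -/
noncomputable def app (Λ : VS p B →ₗ[ℂ] ℂ) (f : E → ℂ) : ℂ :=
  open Classical in if h : f ∈ VS p B then Λ ⟨f, h⟩ else 0

theorem app_mem (Λ : VS p B →ₗ[ℂ] ℂ) {f : E → ℂ} (h : f ∈ VS p B) : app Λ f = Λ ⟨f, h⟩ :=
  dif_pos h

theorem app_add (Λ : VS p B →ₗ[ℂ] ℂ) {f g : E → ℂ} (hf : f ∈ VS p B) (hg : g ∈ VS p B) :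
    app Λ (fun e => f e + g e) = app Λ f + app Λ g := by
  rw [app_mem Λ hf, app_mem Λ hg, app_mem Λ (add_mem_VS hf hg), ← map_add]
  rfl

theorem app_sub (Λ : VS p B →ₗ[ℂ] ℂ) {f g : E → ℂ} (hf : f ∈ VS p B) (hg : g ∈ VS p B) :
    app Λ (fun e => f e - g e) = app Λ f - app Λ g := by
  rw [app_mem Λ hf, app_mem Λ hg, app_mem Λ (sub_mem_VS hf hg), ← map_sub]
  rfl

theorem app_const_mul (Λ : VS p B →ₗ[ℂ] ℂ) {f : E → ℂ} (hf : f ∈ VS p B) (c : ℂ) :
    app Λ (fun e => c * f e) = c * app Λ f := by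
  rw [app_mem Λ hf, app_mem Λ (mul_mem_VS (Sm.const c) hf), ← smul_eq_mul, ← map_smul]
  rfl

/-- A bounded weakly holomorphic functional. -/
structure WH (h : FinCov p B) (Λ : VS p B →ₗ[ℂ] ℂ) (C : ℝ) : Prop where
  C_nonneg : 0 ≤ C
  dzb_eq : ∀ k, Λ (dzbV h k) = 0
  bound : ∀ (U : Set ℂ) (s : ℂ → E) (ψ : ℂ → ℂ) (ζ : ℂ) (ρ M : ℝ), IsSec p U s →
    ContDiff ℝ ∞ ψ → Metric.closedBall ζ ρ ⊆ U → 0 ≤ ρ → ρ ≤ 1 →
    (∀ z ∉ Metric.closedBall ζ ρ, ψ z = 0) → (∀ z, ‖ψ z‖ ≤ M) →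
    ‖app Λ (push p U s ψ)‖ ≤ C * (1 + ‖ζ‖) ^ 2 * ρ * M

section

variable {h : FinCov p B} {Λ : VS p B →ₗ[ℂ] ℂ} {C : ℝ}

theorem app_push_db (hW : WH h Λ C) {U : Set ℂ} {s : ℂ → E} (hs : IsSec p U s) {ψ : ℂ → ℂ}
    (hψ : ContDiff ℝ ∞ ψ) {K : Set ℂ} (hK : IsCompact K) (hKU : K ⊆ U)
    (hψ0 : ∀ z ∉ K, ψ z = 0) : app Λ (push p U s (db ψ)) = 0 := by
  have h1 := push_mem_VS h hs hψ hK hKU hψ0
  have h2 : push p U s (db ψ) = dzb p (push p U s ψ) := by
    ext e
    exact (dzb_push h hs hK hKU hψ0 e).symm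
  rw [h2, app_mem Λ (dzb_mem_VS h.locHomeo h1)]
  exact hW.dzb_eq ⟨_, h1⟩

omit [TopologicalSpace E] in
theorem push_sub (U : Set ℂ) (s : ℂ → E) (ψ ψ' : ℂ → ℂ) (e : E) :
    push p U s (fun z => ψ z - ψ' z) e = push p U s ψ e - push p U s ψ' e := by
  simp only [push]; split_ifs <;> simp

theorem beta_mem (h : FinCov p B) {U : Set ℂ} {s : ℂ → E} (hs : IsSec p U s) {ζ : ℂ} {r : ℝ}
    (hr : 0 < r) (hU : Metric.closedBall ζ r ⊆ U) : push p U s (beta r ζ) ∈ VS p B :=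
  push_mem_VS h hs (contDiff_beta r ζ) (isCompact_closedBall _ _) hU (beta_zero hr ζ)

/-- Independence of the radius. -/
theorem app_beta_radius (hW : WH h Λ C) {U : Set ℂ} {s : ℂ → E} (hs : IsSec p U s) {ζ : ℂ}
    {r r' : ℝ} (hr : 0 < r) (hr' : 0 < r') (hrr : r' ≤ r) (hU : Metric.closedBall ζ r ⊆ U) :
    app Λ (push p U s (beta r' ζ)) = app Λ (push p U s (beta r ζ)) := by
  have hU' : Metric.closedBall ζ r' ⊆ U := (Metric.closedBall_subset_closedBall hrr).trans hU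
  have h1 := app_push_db hW hs (contDiff_kappa hr hr' ζ) (isCompact_closedBall ζ r) hU
    (kappa_zero hr hr' hrr ζ)
  have h2 : push p U s (db (kappa r r' ζ)) =
      fun e => push p U s (beta r ζ) e - push p U s (beta r' ζ) e := by
    ext e
    rw [← push_sub]
    congr 1
    ext z
    exact db_kappa hr hr' ζ z
  rw [h2, app_sub Λ (beta_mem h hs hr hU) (beta_mem h hs hr' hU')] at h1
  exact (sub_eq_zero.1 h1).symm

/-- Independence of the section. -/
theorem push_congr_sec (h : FinCov p B) {U V : Set ℂ} {s t : ℂ → E} (hs : IsSec p U s)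
    (ht : IsSec p V t) {ψ : ℂ → ℂ} {ζ : ℂ} {r : ℝ} (hr : 0 ≤ r)
    (hU : Metric.closedBall ζ r ⊆ U) (hV : Metric.closedBall ζ r ⊆ V) (hst : s ζ = t ζ)
    (hψ0 : ∀ z ∉ Metric.closedBall ζ r, ψ z = 0) : push p U s ψ = push p V t ψ := by
  have hE : EqOn s t (Metric.closedBall ζ r) := by
    refine h.separated.eqOn_of_comp_eqOn h.locHomeo.isLocallyInjective
      (convex_closedBall ζ r).isPreconnected (hs.cont.mono hU) (ht.cont.mono hV) ?_
      (Metric.mem_closedBall_self hr) hst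
    intro z hz
    simp only [Function.comp]
    rw [hs.proj z (hU hz), ht.proj z (hV hz)]
  ext e
  by_cases he : p e ∈ Metric.closedBall ζ r
  · have h1 : p e ∈ U := hU he
    have h2 : p e ∈ V := hV he
    have h3 : s (p e) = t (p e) := hE he
    by_cases hse : t (p e) = e
    · rw [push, push, if_pos ⟨h1, h3.trans hse⟩, if_pos ⟨h2, hse⟩]
    · rw [push_of_not (fun hc => hse (h3.symm.trans hc.2)), push_of_not (fun hc => hse hc.2)]
  · rw [push_eq_zero (hψ0 _ he), push_eq_zero (hψ0 _ he)]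

theorem exists_data (h : FinCov p B) (e : E) : ∃ (x : Set ℂ × (ℂ → E) × ℝ),
    IsSec p x.1 x.2.1 ∧ x.2.1 (p e) = e ∧ 0 < x.2.2 ∧ Metric.closedBall (p e) x.2.2 ⊆ x.1 := by
  obtain ⟨U, s, hs, he, hse⟩ := exists_sec h.locHomeo e
  obtain ⟨r, hr, hb⟩ := Metric.nhds_basis_closedBall.mem_iff.1 (hs.isOpen.mem_nhds he)
  exact ⟨(U, s, r), hs, hse, hr, hb⟩

/-- The holomorphic function attached to a weakly holomorphic functional. -/
noncomputable def fn (h : FinCov p B) (Λ : VS p B →ₗ[ℂ] ℂ) (e : E) : ℂ :=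
  app Λ (push p (exists_data h e).choose.1 (exists_data h e).choose.2.1
    (beta (exists_data h e).choose.2.2 (p e)))

theorem fn_sec (hW : WH h Λ C) {U : Set ℂ} {s : ℂ → E} (hs : IsSec p U s) {ζ : ℂ}
    {r : ℝ} (hr : 0 < r) (hU : Metric.closedBall ζ r ⊆ U) :
    fn h Λ (s ζ) = app Λ (push p U s (beta r ζ)) := by
  have hζ : p (s ζ) = ζ := hs.proj ζ (hU (Metric.mem_closedBall_self hr.le))
  obtain ⟨h1, h2, h3, h4⟩ := (exists_data h (s ζ)).choose_spec
  rw [fn]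
  set x := (exists_data h (s ζ)).choose with hx
  rw [hζ] at h2 h4 ⊢
  have hm : 0 < min r x.2.2 := lt_min hr h3
  rw [← app_beta_radius hW h1 h3 hm (min_le_right _ _) h4,
    ← app_beta_radius hW hs hr hm (min_le_left _ _) hU]
  congr 1
  exact push_congr_sec h h1 hs hm.le ((Metric.closedBall_subset_closedBall (min_le_right _ _)).trans
    h4) ((Metric.closedBall_subset_closedBall (min_le_left _ _)).trans hU) h2
    (beta_zero hm ζ)

/-- Growth estimate. -/
theorem fn_growth (hW : WH h Λ C) : ∃ C' : ℝ, 0 ≤ C' ∧ ∀ (U : Set ℂ) (s : ℂ → E) (ζ : ℂ) (r : ℝ),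
    IsSec p U s → 0 < r → r ≤ 1 → Metric.closedBall ζ r ⊆ U →
    ‖fn h Λ (s ζ)‖ ≤ C' * (1 + ‖ζ‖) ^ 2 / r := by
  obtain ⟨M, hM0, hM⟩ := exists_phi_bound
  refine ⟨C * M, mul_nonneg hW.C_nonneg hM0, fun U s ζ r hs hr hr1 hU => ?_⟩
  rw [fn_sec hW hs hr hU]
  refine (hW.bound U s _ ζ r (M / r ^ 2) hs (contDiff_beta r ζ) hU hr.le hr1 (beta_zero hr ζ)
    ?_).trans_eq ?_
  · intro z
    rw [beta, rad, norm_real]
    exact hM r _ hr
  · field_simp

/-- Second order Taylor estimate for the bump. -/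
theorem exists_taylor {r : ℝ} (hr : 0 < r) : ∃ L : ℝ, 0 ≤ L ∧ ∀ ζ w z : ℂ,
    ‖beta r (ζ + w) z - beta r ζ z + fderiv ℝ (beta r ζ) z w‖ ≤ L * ‖w‖ ^ 2 := by
  have hg : ContDiff ℝ ∞ (rad (phi r)) := contDiff_rad (contDiff_phi r)
  have hcs : HasCompactSupport (rad (phi r)) := by
    refine HasCompactSupport.intro (isCompact_closedBall 0 r) fun z hz => ?_
    have := beta_zero hr 0 z hz
    rwa [beta, sub_zero] at this
  obtain ⟨L, hL⟩ := ContDiff.lipschitzWith_of_hasCompactSupport (𝕂 := ℝ) (n := 1) (hcs.fderiv ℝ)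
    (hg.fderiv_right (m := 1) two_le_infty) one_ne_zero
  refine ⟨L, L.2, fun ζ w z => ?_⟩
  have e1 : fderiv ℝ (beta r ζ) z = fderiv ℝ (rad (phi r)) (z - ζ) := by
    have : beta r ζ = fun z => rad (phi r) (z - ζ) := rfl
    rw [this, fderiv_comp_sub]
  have e2 : beta r (ζ + w) z = rad (phi r) ((z - ζ) - w) := by
    rw [beta]; congr 1; ring
  rw [e1, e2, beta]
  have key := Convex.norm_image_sub_le_of_norm_fderiv_le' (𝕜 := ℝ) (f := rad (phi r))
    (φ := fderiv ℝ (rad (phi r)) (z - ζ)) (C := L * ‖w‖) (s := Metric.closedBall (z - ζ) ‖w‖)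
    (x := z - ζ) (y := z - ζ - w)
    (fun x _ => (hg.differentiable (by simp)).differentiableAt) ?_ (convex_closedBall _ _)
    (Metric.mem_closedBall_self (norm_nonneg _)) (by simp)
  · have e3 : z - ζ - w - (z - ζ) = -w := by ring
    rw [e3, map_neg, sub_neg_eq_add, norm_neg] at key
    calc _ ≤ L * ‖w‖ * ‖w‖ := key
      _ = L * ‖w‖ ^ 2 := by ring
  · intro x hx
    rw [← dist_eq_norm]
    refine (hL.dist_le_mul x (z - ζ)).trans ?_
    exact mul_le_mul_of_nonneg_left (Metric.mem_closedBall.1 hx) L.2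

theorem fn_hasDerivAt (hW : WH h Λ C) {U : Set ℂ} {s : ℂ → E} (hs : IsSec p U s) {ζ : ℂ}
    (hζ : ζ ∈ U) : ∃ d : ℂ, HasDerivAt (fun w => fn h Λ (s w)) d ζ := by
  obtain ⟨R, hR, hb⟩ := Metric.nhds_basis_closedBall.mem_iff.1 (hs.isOpen.mem_nhds hζ)
  obtain ⟨r, hr, hr1, hrR⟩ : ∃ r : ℝ, 0 < r ∧ 2 * r ≤ 1 ∧ 2 * r ≤ R :=
    ⟨min 1 R / 2, by positivity, by linarith [min_le_left 1 R], by linarith [min_le_right 1 R]⟩
  have hU2 : Metric.closedBall ζ (2 * r) ⊆ U := (Metric.closedBall_subset_closedBall hrR).trans hb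
  have hU1 : Metric.closedBall ζ r ⊆ U :=
    (Metric.closedBall_subset_closedBall (by linarith)).trans hU2
  obtain ⟨L, hL0, hL⟩ := exists_taylor hr
  have hβ0 := beta_zero hr ζ
  have hK1 := isCompact_closedBall ζ r
  have m0 := beta_mem h hs hr hU1
  have m1 : push p U s (dd (beta r ζ)) ∈ VS p B :=
    push_mem_VS h hs (contDiff_dd (contDiff_beta r ζ)) hK1 hU1 (dd_zero hK1 hβ0)
  have m2 : push p U s (db (beta r ζ)) ∈ VS p B :=
    push_mem_VS h hs (contDiff_db (contDiff_beta r ζ)) hK1 hU1 (db_zero hK1 hβ0)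
  have hz : app Λ (push p U s (db (beta r ζ))) = 0 := app_push_db hW hs (contDiff_beta r ζ) hK1 hU1 hβ0
  refine ⟨- app Λ (push p U s (dd (beta r ζ))), ?_⟩
  rw [hasDerivAt_iff_isLittleO_nhds_zero]
  have key : ∀ w : ℂ, ‖w‖ ≤ r →
      ‖fn h Λ (s (ζ + w)) - fn h Λ (s ζ) - w • -app Λ (push p U s (dd (beta r ζ)))‖ ≤
        C * (1 + ‖ζ‖) ^ 2 * (2 * r) * (L * ‖w‖ ^ 2) := by
    intro w hw
    have hUw : Metric.closedBall (ζ + w) r ⊆ Metric.closedBall ζ (2 * r) := by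
      apply Metric.closedBall_subset_closedBall'
      rw [dist_eq_norm, add_sub_cancel_left]
      linarith
    have mw := beta_mem h hs hr (hUw.trans hU2)
    rw [fn_sec hW hs hr (hUw.trans hU2), fn_sec hW hs hr hU1]
    have e1 : app Λ (push p U s (beta r (ζ + w))) - app Λ (push p U s (beta r ζ)) -
        w • -app Λ (push p U s (dd (beta r ζ))) =
        app Λ (push p U s (fun z => beta r (ζ + w) z - beta r ζ z + fderiv ℝ (beta r ζ) z w)) := by
      have e2 : push p U s (fun z => beta r (ζ + w) z - beta r ζ z + fderiv ℝ (beta r ζ) z w) =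
          fun e => (push p U s (beta r (ζ + w)) e - push p U s (beta r ζ) e) +
            (w * push p U s (dd (beta r ζ)) e + conj w * push p U s (db (beta r ζ)) e) := by
        ext e
        simp only [push]
        split_ifs
        · rw [fderiv_eq_dd_db]
        · simp
      rw [e2, app_add Λ (sub_mem_VS mw m0) (add_mem_VS (mul_mem_VS (Sm.const w) m1)
        (mul_mem_VS (Sm.const (conj w)) m2)), app_sub Λ mw m0,
        app_add Λ (mul_mem_VS (Sm.const w) m1) (mul_mem_VS (Sm.const (conj w)) m2),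
        app_const_mul Λ m1, app_const_mul Λ m2, hz]
      simp only [smul_eq_mul]
      ring
    rw [e1]
    refine hW.bound U s _ ζ (2 * r) (L * ‖w‖ ^ 2) hs ?_ hU2 (by linarith) hr1 ?_
      (fun z => hL ζ w z)
    · exact ((contDiff_beta r _).sub (contDiff_beta r _)).add
        (contDiff_fderiv_apply (contDiff_beta r ζ) w)
    · intro z hz'
      have h1 : z ∉ Metric.closedBall (ζ + w) r := fun hc => hz' (hUw hc)
      have h2 : z ∉ Metric.closedBall ζ r :=
        fun hc => hz' (Metric.closedBall_subset_closedBall (by linarith) hc)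
      rw [beta_zero hr _ z h1, hβ0 z h2, fderiv_zero_of_compact hK1 hβ0 h2]
      simp
  refine Asymptotics.IsLittleO.of_bound fun c hc => ?_
  set D := C * (1 + ‖ζ‖) ^ 2 * (2 * r) * L with hD
  have hD0 : 0 ≤ D := by
    have := hW.C_nonneg
    positivity
  have hpos : 0 < min r (c / (D + 1)) := lt_min hr (by positivity)
  filter_upwards [Metric.closedBall_mem_nhds (0 : ℂ) hpos] with w hw
  rw [mem_closedBall_zero_iff] at hw
  refine (key w (hw.trans (min_le_left _ _))).trans ?_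
  have h1 : ‖w‖ ≤ c / (D + 1) := hw.trans (min_le_right _ _)
  have h2 : (D + 1) * ‖w‖ ≤ c := by
    rw [le_div_iff₀ (by positivity)] at h1
    linarith
  calc C * (1 + ‖ζ‖) ^ 2 * (2 * r) * (L * ‖w‖ ^ 2) = (D * ‖w‖) * ‖w‖ := by rw [hD]; ring
    _ ≤ c * ‖w‖ := by
      apply mul_le_mul_of_nonneg_right _ (norm_nonneg _)
      have := norm_nonneg w
      nlinarith

theorem fn_differentiableOn (hW : WH h Λ C) {U : Set ℂ} {s : ℂ → E} (hs : IsSec p U s) :
    DifferentiableOn ℂ (fun w => fn h Λ (s w)) U := by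
  intro ζ hζ
  obtain ⟨d, hd⟩ := fn_hasDerivAt hW hs hζ
  exact hd.differentiableAt.differentiableWithinAt

end

end Groth.Agent.An.H410.Weyl
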